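import Mathlib

/-!
Criteria: a permutation group on `ℤ/p^h` containing the rotation is not solvable as soon as it breaks
the residues modulo `p` and has a non-trivial element with more than `p^(h-1)` fixed points.
-/

set_option autoImplicit false

namespace CfsgLib.FreePair

open Equiv

/-- The rotation `x ↦ x + 1`. -/
def rot (m : ℕ) : Perm (ZMod m) := Equiv.addRight 1

theorem rot_apply (m : ℕ) (x : ZMod m) : rot m x = x + 1 := rfl

theorem rot_pow_apply (m : ℕ) (j : ℕ) (x : ZMod m) : (rot m ^ j) x = x + j := by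
  induction j generalizing x with
  | zero => simp
  | succ j ih => rw [pow_succ, Perm.mul_apply, rot_apply, ih]; push_cast; ring

/-- The residue modulo `p`. -/
def res {p m : ℕ} (hd : p ∣ m) : ZMod m →+* ZMod p := ZMod.castHom hd _

theorem exists_abelian_normal {G : Type*} [Group G] [Group.IsSolvable G] [Nontrivial G] :
    ∃ N : Subgroup G, N.Normal ∧ N ≠ ⊥ ∧ ∀ a ∈ N, ∀ b ∈ N, a * b = b * a := by
  classical
  obtain ⟨n, hn⟩ := Group.IsSolvable.solvable (G := G)
  have hex : ∃ k, derivedSeries G k = ⊥ := ⟨n, hn⟩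
  obtain ⟨k, hk⟩ : ∃ k, Nat.find hex = k + 1 := by
    refine Nat.exists_eq_add_one.2 (Nat.pos_of_ne_zero fun e => ?_)
    have := Nat.find_spec hex
    rw [e, derivedSeries_zero] at this
    exact top_ne_bot this
  refine ⟨derivedSeries G k, derivedSeries_normal G k, Nat.find_min hex (by omega), fun a ha b hb => ?_⟩
  have h := Nat.find_spec hex
  rw [hk, derivedSeries_succ] at h
  exact (commutatorElement_eq_one_iff_mul_comm).1
    (Subgroup.mem_bot.1 (h ▸ Subgroup.commutator_mem_commutator ha hb))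

theorem not_isSolvable_of_fixed {p h m : ℕ} [Fact p.Prime] (hm : m = p ^ h) (hdiv : p ∣ m)
    {G : Subgroup (Perm (ZMod m))} (hc : rot m ∈ G) {v : Perm (ZMod m)} (hv : v ∈ G)
    (hbreak : 2 ≤ h → ∃ x, res hdiv (v (x + (p ^ (h - 1) : ℕ))) ≠ res hdiv (v x))
    {g : Perm (ZMod m)} (hg : g ∈ G) (hg1 : g ≠ 1)
    (hfix : p ^ (h - 1) < Nat.card {x // g x = x}) : ¬ Group.IsSolvable G := by
  classical
  intro hsol
  have hp := (Fact.out : p.Prime)
  haveI : NeZero m := ⟨hm ▸ (pow_pos hp.pos h).ne'⟩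
  have hh : 1 ≤ h := by
    by_contra hlt
    obtain rfl : h = 0 := by omega
    exact hp.not_dvd_one (by simpa [hm] using hdiv)
  haveI : Nontrivial G := ⟨⟨⟨g, hg⟩, 1, fun e => hg1 (congrArg Subtype.val e)⟩⟩
  obtain ⟨N, hNn, hN1, hNc⟩ := exists_abelian_normal (G := G)
  have orbit : ∀ (n : G) (j x : ZMod m), n ∈ N → ∃ n' ∈ N, ((n' : G) : Perm (ZMod m)) (x + j) =
      (n : Perm (ZMod m)) x + j := by
    intro n j x hn
    let C : G := ⟨rot m, hc⟩
    refine ⟨C ^ j.val * n * (C ^ j.val)⁻¹, hNn.conj_mem n hn (C ^ j.val), ?_⟩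
    have hC : ((C ^ j.val : G) : Perm (ZMod m)) = rot m ^ j.val := SubgroupClass.coe_pow C j.val
    have h1 : (rot m ^ j.val)⁻¹ (x + j) = x := by
      rw [Perm.inv_def, Equiv.symm_apply_eq, rot_pow_apply, ZMod.natCast_zmod_val]
    simp only [Subgroup.coe_mul, Subgroup.coe_inv, hC, Perm.mul_apply, h1]
    rw [rot_pow_apply, ZMod.natCast_zmod_val]
  let S : AddSubgroup (ZMod m) :=
    AddSubgroup.closure {d | ∃ n ∈ N, ((n : G) : Perm (ZMod m)) 0 = d}
  have hS : ∀ d, d ∈ S → ∀ x, ∃ n ∈ N, ((n : G) : Perm (ZMod m)) x = x + d := by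
    intro d hd
    induction hd using AddSubgroup.closure_induction with
    | mem d hd =>
      intro x
      obtain ⟨n, hn, hnd⟩ := hd
      obtain ⟨n', hn', e⟩ := orbit n x 0 hn
      exact ⟨n', hn', by rw [zero_add] at e; rw [e, hnd, add_comm]⟩
    | zero => intro x; exact ⟨1, one_mem _, by simp⟩
    | add a b _ _ ha hb =>
      intro x
      obtain ⟨n, hn, e⟩ := ha x
      obtain ⟨n', hn', e'⟩ := hb (x + a)
      exact ⟨n' * n, mul_mem hn' hn, by rw [Subgroup.coe_mul, Perm.mul_apply, e, e', add_assoc]⟩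
    | neg a _ ha =>
      intro x
      obtain ⟨n, hn, e⟩ := ha (x - a)
      refine ⟨n⁻¹, inv_mem hn, ?_⟩
      rw [sub_add_cancel] at e
      rw [Subgroup.coe_inv, Perm.inv_eq_iff_eq, ← sub_eq_add_neg, e]
  have hSmem : ∀ n ∈ N, ∀ x, ((n : G) : Perm (ZMod m)) x - x ∈ S := by
    intro n hn x
    obtain ⟨n', hn', e⟩ := orbit n (-x) x hn
    rw [add_neg_cancel, ← sub_eq_add_neg] at e
    exact AddSubgroup.subset_closure ⟨n', hn', e⟩
  have hStop : S = ⊤ := by
    by_contra hne
    have hred : ∀ d ∈ S, res hdiv d = 0 := by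
      intro d hd
      by_contra hd0
      apply hne
      have hu : Nat.Coprime d.val m := by
        suffices hcop : Nat.Coprime d.val p by
          have := hcop.pow_right h
          rwa [← hm] at this
        rw [Nat.coprime_comm, hp.coprime_iff_not_dvd]
        intro hdvd
        apply hd0
        rw [← ZMod.natCast_zmod_val d, map_natCast]
        exact (ZMod.natCast_eq_zero_iff _ _).2 hdvd
      rw [eq_top_iff]
      intro x _
      obtain ⟨r, hr⟩ : ∃ r : ZMod m, r * d = x :=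
        ⟨x * (d.val : ZMod m)⁻¹, by
          conv_lhs => arg 2; rw [← ZMod.natCast_zmod_val d]
          rw [mul_assoc, mul_comm _ (d.val : ZMod m), ZMod.coe_mul_inv_eq_one _ hu, mul_one]⟩
      rw [← hr, ← ZMod.natCast_zmod_val r, ← nsmul_eq_mul]
      exact AddSubgroup.nsmul_mem _ hd _
    obtain ⟨d, hd, hd0⟩ : ∃ d ∈ S, d ≠ 0 := by
      by_contra hall
      push Not at hall
      refine hN1 ((Subgroup.eq_bot_iff_forall N).2 fun n hn => Subtype.ext (Equiv.ext fun x => ?_))
      exact sub_eq_zero.1 (hall _ (hSmem n hn x))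
    have hh2 : 2 ≤ h := by
      by_contra hlt
      obtain rfl : h = 1 := by omega
      have := hred d hd
      rw [← ZMod.natCast_zmod_val d, map_natCast, ZMod.natCast_eq_zero_iff] at this
      have hlt' : d.val < p ^ 1 := lt_of_lt_of_eq (ZMod.val_lt d) hm
      rw [pow_one] at hlt'
      exact hd0 ((ZMod.val_eq_zero d).1 (Nat.eq_zero_of_dvd_of_lt this hlt'))
    -- the subgroup of order p
    obtain ⟨i, hi, hSi⟩ : ∃ i, i ≤ h ∧ Nat.card S = p ^ i := by
      have := AddSubgroup.card_addSubgroup_dvd_card S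
      rw [Nat.card_zmod] at this
      replace this : Nat.card S ∣ p ^ h := dvd_trans this (dvd_of_eq hm)
      exact (Nat.dvd_prime_pow hp).1 this
    have hi0 : p ∣ Nat.card S := by
      rw [hSi]
      refine dvd_pow_self p fun e => hd0 ?_
      rw [e, pow_zero, AddSubgroup.card_eq_one] at hSi
      rw [hSi, AddSubgroup.mem_bot] at hd
      exact hd
    obtain ⟨⟨e, he⟩, heo⟩ := exists_prime_addOrderOf_dvd_card' p hi0
    have hμ : ((p ^ (h - 1) : ℕ) : ZMod m) ∈ S := by
      have hpe : (p * e.val : ℕ) = p * e.val := rfl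
      have h1 : p • e = 0 := by
        have := addOrderOf_nsmul_eq_zero (⟨e, he⟩ : S)
        rw [heo] at this
        exact congrArg Subtype.val this
      rw [← ZMod.natCast_zmod_val e, nsmul_eq_mul, ← Nat.cast_mul, ZMod.natCast_eq_zero_iff] at h1
      replace h1 : p * p ^ (h - 1) ∣ p * e.val := dvd_trans (dvd_of_eq (by
        rw [hm, ← pow_succ']; congr 1; omega)) h1
      obtain ⟨a, ha⟩ := Nat.dvd_of_mul_dvd_mul_left hp.pos h1
      have hap : Nat.Coprime a p := by
        rw [Nat.coprime_comm, hp.coprime_iff_not_dvd]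
        rintro ⟨b, rfl⟩
        have hz : e = 0 := by
          rw [← ZMod.natCast_zmod_val e, ha, ZMod.natCast_eq_zero_iff]
          exact dvd_trans (dvd_of_eq hm) ⟨b, by rw [← mul_assoc, ← pow_succ, show h - 1 + 1 = h by omega]⟩
        have : (⟨e, he⟩ : S) = 0 := Subtype.ext hz
        rw [this, addOrderOf_zero] at heo
        exact hp.one_lt.ne heo
      have hkey : ((p ^ (h - 1) : ℕ) : ZMod m) = ((a : ZMod m)⁻¹).val • e := by
        rw [nsmul_eq_mul, ZMod.natCast_zmod_val, ← ZMod.natCast_zmod_val e, ha, Nat.cast_mul,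
          mul_comm (a : ZMod m)⁻¹, mul_assoc, ZMod.coe_mul_inv_eq_one _ (hm ▸ hap.pow_right h), mul_one]
      rw [hkey]
      exact AddSubgroup.nsmul_mem _ he _
    obtain ⟨x, hx⟩ := hbreak hh2
    obtain ⟨n, hn, hnx⟩ := hS _ hμ x
    have hmem := hSmem _ (hNn.conj_mem n hn ⟨v, hv⟩) (v x)
    rw [Subgroup.coe_mul, Subgroup.coe_mul, Subgroup.coe_inv, Perm.mul_apply, Perm.mul_apply,
      Perm.inv_def, Equiv.symm_apply_apply, hnx] at hmem
    exact hx (sub_eq_zero.1 ((map_sub (res hdiv) _ _).symm.trans (hred _ hmem)))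
  -- regular abelian normal subgroup
  obtain ⟨x0, hx0⟩ : ∃ x0, g x0 = x0 := by
    obtain ⟨⟨x, hx⟩⟩ := (Nat.card_pos_iff.1 (lt_of_le_of_lt (Nat.zero_le _) hfix)).1
    exact ⟨x, hx⟩
  have hreg : Function.Bijective fun n : N => ((n : G) : Perm (ZMod m)) x0 := by
    constructor
    · intro n n' e
      refine Subtype.ext (Subtype.ext (Equiv.ext fun y => ?_))
      obtain ⟨t, ht, hty⟩ := hS (y - x0) (hStop ▸ AddSubgroup.mem_top _) x0
      rw [add_sub_cancel] at hty
      have e1 : ∀ k : N, ((k : G) : Perm (ZMod m)) y =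
          (t : Perm (ZMod m)) (((k : G) : Perm (ZMod m)) x0) := by
        intro k
        have hk := congrArg (fun w : G => ((w : Perm (ZMod m)) x0)) (hNc k k.2 t ht)
        simp only [Subgroup.coe_mul, Perm.mul_apply, hty] at hk
        exact hk
      rw [e1 n, e1 n']
      exact congrArg _ e
    · intro y
      obtain ⟨t, ht, hty⟩ := hS (y - x0) (hStop ▸ AddSubgroup.mem_top _) x0
      exact ⟨⟨t, ht⟩, by simpa using hty⟩
  let gG : G := ⟨g, hg⟩
  let Cg : Subgroup N := (Subgroup.centralizer ({gG} : Set G)).subgroupOf N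
  have hcard : Nat.card N = p ^ h := by rw [Nat.card_eq_of_bijective _ hreg, Nat.card_zmod, hm]
  have hle : Nat.card {x // g x = x} ≤ Nat.card Cg := by
    refine Nat.card_le_card_of_surjective
      (fun n : Cg => (⟨((n.1 : G) : Perm (ZMod m)) x0, ?_⟩ : {x // g x = x})) ?_
    · have hn := congrArg (fun w : G => ((w : Perm (ZMod m)) x0))
        (Subgroup.mem_centralizer_singleton_iff.1 (Subgroup.mem_subgroupOf.1 n.2))
      simp only [gG, Subgroup.coe_mul, Perm.mul_apply, hx0] at hn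
      exact hn.symm
    · rintro ⟨y, hy⟩
      obtain ⟨n, hn⟩ := hreg.2 y
      have hconj : gG * (n : G) * gG⁻¹ ∈ N := hNn.conj_mem _ n.2 _
      have hn' : (⟨_, hconj⟩ : N) = n := hreg.1 (by
        show g (((n : G) : Perm (ZMod m)) (g⁻¹ x0)) = ((n : G) : Perm (ZMod m)) x0
        have hi : g⁻¹ x0 = x0 := by rw [Perm.inv_eq_iff_eq, hx0]
        simp only at hn
        rw [hi, hn, hy])
      refine ⟨⟨n, Subgroup.mem_subgroupOf.2 (Subgroup.mem_centralizer_singleton_iff.2 ?_)⟩, Subtype.ext hn⟩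
      have h2 := congrArg Subtype.val hn'
      exact (mul_inv_eq_iff_eq_mul.1 h2).symm
  have hproper : Cg ≠ ⊤ := by
    intro htop
    refine hg1 (Equiv.ext fun y => ?_)
    obtain ⟨n, hn⟩ := hreg.2 y
    have h1 : n ∈ Cg := htop ▸ Subgroup.mem_top n
    have h2 := congrArg (fun w : G => ((w : Perm (ZMod m)) x0))
      (Subgroup.mem_centralizer_singleton_iff.1 (Subgroup.mem_subgroupOf.1 h1))
    simp only [gG, Subgroup.coe_mul, Perm.mul_apply, hx0] at h2
    simp only at hn
    rw [hn] at h2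
    exact h2.symm
  obtain ⟨j, hjh, hj⟩ := (Nat.dvd_prime_pow hp).1 (hcard ▸ Subgroup.card_subgroup_dvd_card Cg)
  have hjlt : j ≠ h := fun e => hproper (Subgroup.eq_top_of_card_eq _ (by rw [hj, e, hcard]))
  have : p ^ j ≤ p ^ (h - 1) := Nat.pow_le_pow_right hp.pos (by omega)
  omega

/-- A point of period two, or three when `p ≠ 3`, excludes `p`-power order. -/
theorem not_pPow_of_period {α : Type*} [Finite α] {p : ℕ} [Fact p.Prime] {g : Perm α} {x : α} {r : ℕ}
    (hr : ¬ p ∣ r) (hper : (g ^ r) x = x) (hne : g x ≠ x) : ¬ ∃ k : ℕ, orderOf g = p ^ k := by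
  rintro ⟨k, hk⟩
  have hcop : Nat.Coprime r (p ^ k) :=
    (Nat.coprime_comm.1 ((Fact.out : p.Prime).coprime_iff_not_dvd.2 hr)).pow_right k
  obtain ⟨m, hm⟩ := exists_pow_eq_self_of_coprime (x := g) (n := r) (hk ▸ hcop)
  refine hne ?_
  rw [← hm]
  clear hm
  induction m with
  | zero => simp
  | succ m ih => rw [pow_succ, Perm.mul_apply, hper, ih]

/-- `a^2 = b^3 = (ab)^5 = 1`, `a ≠ 1` forces non-solvability. -/
theorem not_isSolvable_of_triangle {G : Type*} [Group G] (a b : G) (ha : a ^ 2 = 1) (hb : b ^ 3 = 1)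
    (hab : (a * b) ^ 5 = 1) (ha1 : a ≠ 1) : ¬ Group.IsSolvable G := by
  intro hsol
  set H := Subgroup.closure ({a, b} : Set G) with hH
  let a' : H := ⟨a, Subgroup.subset_closure (by simp)⟩
  let b' : H := ⟨b, Subgroup.subset_closure (by simp)⟩
  have : Group.IsSolvable H := inferInstance
  have : Nontrivial H := ⟨⟨a', 1, fun e => ha1 (congrArg Subtype.val e)⟩⟩
  refine (Group.IsSolvable.commutator_lt_top_of_nontrivial H).ne ?_
  have key : ∀ {A : Type _} [CommGroup A] (x y : A), x ^ 2 = 1 → y ^ 3 = 1 → (x * y) ^ 5 = 1 →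
      x = 1 ∧ y = 1 := by
    intro A _ x y hx hy hxy
    rw [mul_pow, show x ^ 5 = x ^ 2 * x ^ 2 * x by rw [← pow_add, ← pow_succ],
      show y ^ 5 = y ^ 3 * y ^ 2 by rw [← pow_add], hx, hy, one_mul, one_mul, one_mul] at hxy
    have hxy' : x = (y ^ 2)⁻¹ := eq_inv_of_mul_eq_one_left hxy
    have hy2 : y = 1 := by
      rw [hxy', inv_pow, inv_eq_one, ← pow_mul, show 2 * 2 = 3 + 1 from rfl, pow_succ, hy, one_mul] at hx
      exact hx
    exact ⟨by rw [hxy', hy2]; simp, hy2⟩
  obtain ⟨e1, e2⟩ := key (Abelianization.of a') (Abelianization.of b')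
    (by rw [← map_pow, show a' ^ 2 = 1 from Subtype.ext ha, map_one])
    (by rw [← map_pow, show b' ^ 3 = 1 from Subtype.ext hb, map_one])
    (by rw [← map_mul, ← map_pow, show (a' * b') ^ 5 = 1 from Subtype.ext hab, map_one])
  rw [eq_top_iff]
  rintro x -
  rw [← QuotientGroup.eq_one_iff]
  obtain ⟨x, hx⟩ := x
  induction hx using Subgroup.closure_induction with
  | mem y hy =>
    rcases hy with rfl | rfl
    · exact e1
    · exact e2
  | one => exact map_one (Abelianization.of (G := H))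
  | mul y z hy hz iy iz =>
    show Abelianization.of (⟨y, hy⟩ * ⟨z, hz⟩ : H) = 1
    rw [map_mul]
    exact (congrArg₂ (· * ·) iy iz).trans (one_mul 1)
  | inv y hy iy =>
    show Abelianization.of (⟨y, hy⟩⁻¹ : H) = 1
    rw [map_inv]
    exact inv_eq_one.2 iy

end CfsgLib.FreePair
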