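import Cfsg.Agent.Lib.FreePair.Templates

/-!
Cycles of a `p`-element listed as decreasing intervals inside `ℤ/m`, preceded by fixed points.
-/

set_option autoImplicit false

namespace CfsgLib.FreePair

open Equiv Function

variable {n p : ℕ}

theorem per_iterate (w : Perm (Fin n)) (x : Fin n) (i : ℕ) :
    minimalPeriod w (w^[i] x) = minimalPeriod w x :=
  minimalPeriod_apply_iterate (w.injective.mem_periodicPts x) i

/-- Cycles inside `S`, filling at most `M` places. -/
theorem exists_cycles (hp2 : 2 ≤ p) (x0 : Fin n) (w : Perm (Fin n))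
    (hpow : ∀ x, ∃ k, minimalPeriod w x = p ^ k) :
    ∀ (M : ℕ) (S : Finset (Fin n)), (∀ x, x ∈ S ↔ w x ∈ S) →
      (∀ x ∈ S, minimalPeriod w x ∣ M ∧ p ∣ minimalPeriod w x) →
      ∃ (M' : ℕ) (g : ℕ → Fin n) (v : ℕ → ℕ), M' ≤ M ∧ p ∣ M' ∧
        (∀ i, i < M' → g i ∈ S ∧ v i < M' ∧ w (g i) = g (v i) ∧ (v i + 1) % p = i % p) ∧
        Set.InjOn g (Set.Iio M') ∧
        (M' = M ∨ ∀ x ∈ S, ∃ i, i < M' ∧ g i = x) ∧
        (p - 1) * M' ≤ p * ((Finset.range M').filter fun i => v i + 1 = i).card ∧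
        ((∀ x ∈ S, minimalPeriod w x = p) → ∀ i, i < M' → i % p = 0 → v i = i + (p - 1)) ∧
        ((M ≠ 0 ∧ S.Nonempty) → ∃ a ∈ S, (∀ x ∈ S, minimalPeriod w x ≤ minimalPeriod w a) ∧
          minimalPeriod w a ≤ M' ∧ v 0 = minimalPeriod w a - 1 ∧
          ∀ i, 1 ≤ i → i < minimalPeriod w a → v i = i - 1) := by
  classical
  intro M
  induction M using Nat.strong_induction_on with
  | _ M ih =>
  intro S hS hdvd
  by_cases hM : M = 0 ∨ S = ∅
  · refine ⟨0, fun _ => x0, id, Nat.zero_le _, dvd_zero p, by simp, by simp, ?_, by simp, by simp, ?_⟩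
    · rcases hM with h | h
      · exact Or.inl h.symm
      · exact Or.inr fun x hx => by simp [h] at hx
    · rintro ⟨h1, h2⟩
      rcases hM with h | h
      · exact absurd h h1
      · simp [h] at h2
  push Not at hM
  obtain ⟨hM0, hSne⟩ := hM
  obtain ⟨a, haS, hamax⟩ := S.exists_max_image (fun x => minimalPeriod w x) hSne
  obtain ⟨r, hr⟩ : ∃ r, r = minimalPeriod w a := ⟨_, rfl⟩
  have hrM : r ∣ M := hr ▸ (hdvd a haS).1
  have hpr : p ∣ r := hr ▸ (hdvd a haS).2
  have hrpos : 0 < r := Nat.pos_of_ne_zero fun h => hM0 (Nat.eq_zero_of_zero_dvd (h ▸ hrM))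
  have hrle : r ≤ M := Nat.le_of_dvd (Nat.pos_of_ne_zero hM0) hrM
  have hcl : ∀ i, w^[i] a ∈ S := by
    intro i
    induction i with
    | zero => exact haS
    | succ i hi => rw [iterate_succ_apply']; exact (hS _).1 hi
  let O : Finset (Fin n) := (Finset.range r).image fun j => w^[j] a
  have hO : ∀ x, x ∈ O ↔ ∃ j, w^[j] a = x := by
    intro x
    rw [Finset.mem_image]
    constructor
    · rintro ⟨j, _, e⟩; exact ⟨j, e⟩
    · rintro ⟨j, e⟩
      exact ⟨j % r, Finset.mem_range.2 (Nat.mod_lt _ hrpos), by rw [hr, iterate_mod_minimalPeriod_eq]; exact e⟩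
  have hOw : ∀ x, x ∈ O ↔ w x ∈ O := by
    intro x
    rw [hO, hO]
    constructor
    · rintro ⟨j, e⟩; exact ⟨j + 1, by rw [iterate_succ_apply', e]⟩
    · rintro ⟨j, e⟩
      refine ⟨j + (r - 1), w.injective ?_⟩
      rw [← e, ← iterate_succ_apply' w, Nat.succ_eq_add_one, add_assoc, Nat.sub_add_cancel hrpos,
        iterate_add_apply, hr, iterate_minimalPeriod]
  let S' := S \ O
  have hS' : ∀ x, x ∈ S' ↔ w x ∈ S' := fun x => by simp only [S', Finset.mem_sdiff, ← hS x, ← hOw x]
  have hdvd' : ∀ x ∈ S', minimalPeriod w x ∣ M - r ∧ p ∣ minimalPeriod w x := by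
    intro x hx
    have hx' := (Finset.mem_sdiff.1 hx).1
    refine ⟨Nat.dvd_sub (hdvd x hx').1 ?_, (hdvd x hx').2⟩
    obtain ⟨k, hk⟩ := hpow x
    obtain ⟨l, hl⟩ := hpow a
    have hle : minimalPeriod w x ≤ minimalPeriod w a := hamax x hx'
    rw [hk, hl] at hle
    rw [hr, hk, hl]
    exact pow_dvd_pow p ((Nat.pow_le_pow_iff_right hp2).1 hle)
  obtain ⟨M', g', v', hM'le, hpM', hg', hinj', hfull', hcount', hthree', -⟩ :=
    ih (M - r) (by omega) S' hS' hdvd'
  let g : ℕ → Fin n := fun i => if i < r then w^[r - 1 - i] a else g' (i - r)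
  let v : ℕ → ℕ := fun i => if i = 0 then r - 1 else if i < r then i - 1 else v' (i - r) + r
  have g1 : ∀ i, i < r → g i = w^[r - 1 - i] a := fun i hi => by simp only [g, if_pos hi]
  have g2 : ∀ i, g (i + r) = g' i := fun i => by
    simp only [g, if_neg (show ¬ i + r < r by omega), Nat.add_sub_cancel]
  have v1 : ∀ i, 1 ≤ i → i < r → v i = i - 1 := fun i h1 h2 => by
    simp only [v, if_neg (show i ≠ 0 by omega), if_pos h2]
  have v2 : ∀ i, v (i + r) = v' i + r := fun i => by
    simp only [v, if_neg (show i + r ≠ 0 by omega), if_neg (show ¬ i + r < r by omega), Nat.add_sub_cancel]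
  have v0 : v 0 = r - 1 := by simp only [v, if_pos rfl]
  obtain ⟨c, hc⟩ := hpr
  have hmodr : ∀ i, (i + r) % p = i % p := fun i => by rw [hc, Nat.add_mul_mod_self_left]
  have hsplit : ∀ i, i < r + M' → i < r ∨ ∃ j, j < M' ∧ i = j + r := fun i hi => by
    by_cases h : i < r
    · exact Or.inl h
    · exact Or.inr ⟨i - r, by omega, by omega⟩
  refine ⟨r + M', g, v, by omega, dvd_add ⟨c, hc⟩ hpM', ?_, ?_, ?_, ?_, ?_, ?_⟩
  · intro i hi
    rcases hsplit i hi with h | ⟨j, hj, rfl⟩
    · rw [g1 i h]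
      rcases Nat.eq_zero_or_pos i with rfl | hipos
      · refine ⟨hcl _, by rw [v0]; omega, ?_, ?_⟩
        · rw [v0, g1 _ (by omega), ← iterate_succ_apply' w, Nat.sub_zero, Nat.succ_eq_add_one,
            Nat.sub_add_cancel hrpos, Nat.sub_self, hr, iterate_minimalPeriod]
          rfl
        · rw [v0, Nat.sub_add_cancel hrpos, hc, Nat.mul_mod_right, Nat.zero_mod]
      · refine ⟨hcl _, by rw [v1 i hipos h]; omega, ?_, ?_⟩
        · rw [v1 i hipos h, g1 _ (by omega), ← iterate_succ_apply' w]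
          congr 1
          omega
        · rw [v1 i hipos h, Nat.sub_add_cancel hipos]
    · obtain ⟨h1, h2, h3, h4⟩ := hg' j hj
      refine ⟨g2 j ▸ (Finset.mem_sdiff.1 h1).1, by rw [v2]; omega, by rw [g2, v2, g2, h3], ?_⟩
      rw [v2, show v' j + r + 1 = v' j + 1 + r by omega, hmodr, hmodr, h4]
  · intro i hi j hj e
    simp only [Set.mem_Iio] at hi hj
    rcases hsplit i hi with h | ⟨i', hi', rfl⟩ <;> rcases hsplit j hj with h' | ⟨j', hj', rfl⟩
    · rw [g1 i h, g1 j h'] at e
      have := iterate_injOn_Iio_minimalPeriod (Set.mem_Iio.2 (show r - 1 - i < minimalPeriod w a by omega))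
        (Set.mem_Iio.2 (show r - 1 - j < minimalPeriod w a by omega)) e
      omega
    · rw [g1 i h, g2] at e
      exact absurd ((hO _).2 ⟨_, e⟩) (Finset.mem_sdiff.1 (hg' j' hj').1).2
    · rw [g2, g1 j h'] at e
      exact absurd ((hO _).2 ⟨_, e.symm⟩) (Finset.mem_sdiff.1 (hg' i' hi').1).2
    · rw [g2, g2] at e
      rw [hinj' (Set.mem_Iio.2 hi') (Set.mem_Iio.2 hj') e]
  · rcases hfull' with h | h
    · exact Or.inl (by omega)
    · refine Or.inr fun x hx => ?_
      by_cases hxO : x ∈ O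
      · obtain ⟨j, hj, e⟩ := Finset.mem_image.1 hxO
        rw [Finset.mem_range] at hj
        exact ⟨r - 1 - j, by omega, by rw [g1 _ (by omega), show r - 1 - (r - 1 - j) = j by omega]; exact e⟩
      · obtain ⟨i, hi, e⟩ := h x (Finset.mem_sdiff.2 ⟨hx, hxO⟩)
        exact ⟨i + r, by omega, by rw [g2, e]⟩
  · have hsub : (Finset.Ico 1 r) ∪ ((Finset.range M').filter fun i => v' i + 1 = i).image (· + r) ⊆
        (Finset.range (r + M')).filter fun i => v i + 1 = i := by
      intro i hi
      rw [Finset.mem_filter, Finset.mem_range]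
      rcases Finset.mem_union.1 hi with h | h
      · rw [Finset.mem_Ico] at h
        exact ⟨by omega, by rw [v1 i h.1 h.2]; omega⟩
      · obtain ⟨j, hj, rfl⟩ := Finset.mem_image.1 h
        rw [Finset.mem_filter, Finset.mem_range] at hj
        exact ⟨by omega, by rw [v2]; omega⟩
    have hdis : Disjoint (Finset.Ico 1 r)
        (((Finset.range M').filter fun i => v' i + 1 = i).image (· + r)) := by
      rw [Finset.disjoint_left]
      intro i h1 h2
      obtain ⟨j, -, rfl⟩ := Finset.mem_image.1 h2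
      rw [Finset.mem_Ico] at h1
      omega
    have hcard := Finset.card_le_card hsub
    rw [Finset.card_union_of_disjoint hdis, Nat.card_Ico,
      Finset.card_image_of_injective _ (add_left_injective r)] at hcard
    have h5 := Nat.mul_le_mul_left p hcard
    rw [mul_add] at h5
    have h6 : p * (r - 1) = p * r - p := by rw [Nat.mul_sub, mul_one]
    have h7 : (p - 1) * (r + M') = p * r - r + (p - 1) * M' := by
      rw [mul_add, Nat.sub_mul, one_mul]
    have h8 : p ≤ r := Nat.le_of_dvd hrpos ⟨c, hc⟩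
    have h9 : r ≤ p * r := Nat.le_mul_of_pos_left r (by omega)
    omega
  · intro hall i hi hip
    rcases hsplit i hi with h | ⟨j, hj, rfl⟩
    · have hrp : r = p := hr ▸ hall a haS
      rw [Nat.mod_eq_of_lt (hrp ▸ h)] at hip
      subst hip
      rw [v0, hrp, Nat.zero_add]
    · rw [hmodr] at hip
      rw [v2, hthree' (fun x hx => hall x (Finset.mem_sdiff.1 hx).1) j hj hip]
      omega
  · intro _
    exact ⟨a, haS, hamax, hr ▸ Nat.le_add_right r M', hr ▸ v0, fun i h1 h2 => v1 i h1 (hr ▸ h2)⟩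

/-- The layout of a `p`-element inside `ℤ/m`. -/
theorem exists_layout [Fact p.Prime] (hp3 : 3 ≤ p) {m : ℕ} [NeZero m] (hdiv : p ∣ m) (hmn : m ≤ n)
    (w : Perm (Fin n)) (hw : w ≠ 1) (hpow : ∀ x, ∃ k, minimalPeriod w x = p ^ k)
    (hle : ∀ x, minimalPeriod w x ∣ m) :
    ∃ (v : Perm (ZMod m)) (f : ZMod m → Fin n) (L q : ℕ), Injective f ∧ (∀ x, w (f x) = f (v x)) ∧
      Down p hdiv v L q ∧ (∀ x, minimalPeriod w x ≤ q) ∧ ∃ k, q = p ^ k := by
  classical
  have hp := (Fact.out : p.Prime)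
  let S : Finset (Fin n) := Finset.univ.filter fun x => w x ≠ x
  have hSmem : ∀ x, x ∈ S ↔ w x ≠ x := fun x => by simp [S]
  have hS : ∀ x, x ∈ S ↔ w x ∈ S := fun x => by
    rw [hSmem, hSmem]; exact w.injective.ne_iff.symm
  have hdvd : ∀ x ∈ S, minimalPeriod w x ∣ m ∧ p ∣ minimalPeriod w x := by
    intro x hx
    refine ⟨hle x, ?_⟩
    obtain ⟨k, hk⟩ := hpow x
    rw [hk]
    refine dvd_pow_self p fun h0 => (hSmem x).1 hx ?_
    rw [h0, pow_zero] at hk
    exact minimalPeriod_eq_one_iff_isFixedPt.1 hk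
  have hne : S.Nonempty := by
    by_contra h
    rw [Finset.not_nonempty_iff_eq_empty] at h
    refine hw (Equiv.ext fun x => ?_)
    by_contra hx
    have hxS : x ∈ S := (hSmem x).2 hx
    simp [h] at hxS
  obtain ⟨M', g, v0, hM'le, hpM', hg, hinj, hfull, hcount, hthree, hfirst⟩ :=
    exists_cycles hp.two_le hne.choose w hpow m S hS hdvd
  obtain ⟨a, haS, hamax, haM, hstart, hfirst'⟩ := hfirst ⟨NeZero.ne m, hne⟩
  obtain ⟨q, hq⟩ : ∃ q, q = minimalPeriod w a := ⟨_, rfl⟩
  obtain ⟨L, hL⟩ : ∃ L, L = m - M' := ⟨_, rfl⟩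
  -- fixed points to put in front
  let F : Finset (Fin n) := Finset.univ \ (Finset.range M').image g
  have hFcard : L ≤ F.card := by
    have h1 := Finset.le_card_sdiff ((Finset.range M').image g) (Finset.univ : Finset (Fin n))
    have h2 : ((Finset.range M').image g).card ≤ M' := le_trans Finset.card_image_le (by simp)
    rw [Finset.card_univ, Fintype.card_fin] at h1
    show L ≤ (Finset.univ \ (Finset.range M').image g).card
    omega
  obtain ⟨F', hF'sub, hF'card⟩ := Finset.exists_subset_card_eq hFcard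
  let fix : Fin L → Fin n := fun i => (F'.equivFinOfCardEq hF'card).symm i
  have hfixinj : Injective fix := fun i j e => (F'.equivFinOfCardEq hF'card).symm.injective (Subtype.ext e)
  have hfixg : ∀ i, ∀ j, j < M' → fix i ≠ g j := fun i j hj e => by
    have h1 := hF'sub ((F'.equivFinOfCardEq hF'card).symm i).2
    rw [Finset.mem_sdiff] at h1
    exact h1.2 (Finset.mem_image.2 ⟨j, Finset.mem_range.2 hj, e.symm⟩)
  have hfixw : ∀ i, w (fix i) = fix i := by
    intro i
    by_contra hne
    rcases hfull with h | h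
    · have := i.2; omega
    · obtain ⟨j, hj, e⟩ := h _ ((hSmem _).2 hne)
      exact hfixg i j hj e.symm
  let f : ZMod m → Fin n := fun x => if h : x.val < L then fix ⟨x.val, h⟩ else g (x.val - L)
  let vf : ZMod m → ZMod m := fun x => if x.val < L then x else ((L + v0 (x.val - L) : ℕ) : ZMod m)
  have hLM : L + M' = m := by omega
  have hxlt : ∀ x : ZMod m, L ≤ x.val → x.val - L < M' := fun x hx => by
    have := ZMod.val_lt x; omega
  have hvval : ∀ x : ZMod m, L ≤ x.val →
      (((L + v0 (x.val - L) : ℕ) : ZMod m)).val = L + v0 (x.val - L) := fun x hx =>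
    ZMod.val_cast_of_lt (by have := (hg _ (hxlt x hx)).2.1; omega)
  have finj : Injective f := by
    intro x y e
    by_cases hx : x.val < L <;> by_cases hy : y.val < L <;> simp only [f, dif_pos, dif_neg, hx, hy, not_false_eq_true] at e
    · exact ZMod.val_injective m (congrArg Fin.val (hfixinj e))
    · exact absurd e (hfixg _ _ (hxlt y (not_lt.1 hy)))
    · exact absurd e.symm (hfixg _ _ (hxlt x (not_lt.1 hx)))
    · have := hinj (Set.mem_Iio.2 (hxlt x (not_lt.1 hx))) (Set.mem_Iio.2 (hxlt y (not_lt.1 hy))) e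
      exact ZMod.val_injective m (by omega)
  have hwf : ∀ x, w (f x) = f (vf x) := by
    intro x
    by_cases hx : x.val < L
    · simp only [f, vf, dif_pos hx, if_pos hx, hfixw]
    · have h' := not_lt.1 hx
      obtain ⟨-, -, h3, -⟩ := hg _ (hxlt x h')
      have hnot : ¬ (((L + v0 (x.val - L) : ℕ) : ZMod m)).val < L := by rw [hvval x h']; omega
      simp only [f, vf, dif_neg hx, if_neg hx, dif_neg hnot, h3]
      rw [hvval x h', Nat.add_sub_cancel_left]
  have vinj : Injective vf := fun x y e => finj (w.injective (by rw [hwf, hwf, e]))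
  let v : Perm (ZMod m) := Equiv.ofBijective vf (Finite.injective_iff_bijective.1 vinj)
  have hv : ∀ x, v x = vf x := fun x => rfl
  have hcast : ∀ i, i < M' → v ((L + i : ℕ) : ZMod m) = ((L + v0 i : ℕ) : ZMod m) := by
    intro i hi
    have hval : ((L + i : ℕ) : ZMod m).val = L + i := ZMod.val_cast_of_lt (by omega)
    rw [hv]
    simp only [vf, hval, if_neg (show ¬ L + i < L by omega), Nat.add_sub_cancel_left]
  have hq3 : 3 ≤ q := hq ▸ le_trans hp3
    (Nat.le_of_dvd (minimalPeriod_pos_of_mem_periodicPts (w.injective.mem_periodicPts a)) (hdvd a haS).2)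
  have hLdvd : p ∣ L := hL ▸ Nat.dvd_sub hdiv hpM'
  refine ⟨v, f, L, q, finj, hwf, ⟨hq3, by omega, hLdvd, ?_, ?_, ?_, ?_, ?_, ?_⟩, ?_, hq ▸ hpow a⟩
  · intro x hx
    rw [hv]
    simp only [vf, if_pos hx]
  · intro x hx
    rw [hv]
    simp only [vf, if_neg (not_lt.2 hx)]
    obtain ⟨-, -, -, h4⟩ := hg _ (hxlt x hx)
    have h5 : ((v0 (x.val - L) + 1 : ℕ) : ZMod p) = ((x.val - L : ℕ) : ZMod p) :=
      (ZMod.natCast_eq_natCast_iff' _ _ _).2 h4
    have hL0 : (L : ZMod p) = 0 := (ZMod.natCast_eq_zero_iff _ _).2 hLdvd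
    rw [Nat.cast_sub hx, hL0, sub_zero, Nat.cast_add, Nat.cast_one] at h5
    conv_rhs => rw [← ZMod.natCast_zmod_val x, res_natCast]
    rw [res_natCast, Nat.cast_add, hL0, zero_add, ← h5, add_sub_cancel_right]
  · intro i h1 h2
    rw [hcast i (by omega), hfirst' i h1 (hq ▸ h2)]
    congr 1
    omega
  · have h := hcast 0 (by omega)
    rw [Nat.add_zero] at h
    rw [h, hstart]
    congr 1
    omega
  · rw [show m - L = M' by omega]
    refine le_trans hcount (Nat.mul_le_mul_left p ?_)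
    rw [Nat.card_eq_fintype_card, Fintype.card_subtype]
    refine Finset.card_le_card_of_injOn (fun i => ((L + i : ℕ) : ZMod m)) ?_ ?_
    · intro i hi
      simp only [Finset.coe_filter, Set.mem_setOf_eq, Finset.mem_range] at hi
      simp only [Finset.coe_filter, Set.mem_setOf_eq, Finset.mem_univ, true_and]
      rw [hcast i hi.1, eq_sub_iff_add_eq, ← Nat.cast_one (R := ZMod m), ← Nat.cast_add, add_assoc, hi.2]
    · intro i hi j hj e
      simp only [Finset.coe_filter, Set.mem_setOf_eq, Finset.mem_range] at hi hj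
      have h := congrArg ZMod.val e
      simp only at h
      rw [ZMod.val_cast_of_lt (by omega), ZMod.val_cast_of_lt (by omega)] at h
      omega
  · intro hqp x hx hmod
    have hall : ∀ y ∈ S, minimalPeriod w y = p := fun y hy =>
      le_antisymm (hqp ▸ hq ▸ hamax y hy)
        (Nat.le_of_dvd (minimalPeriod_pos_of_mem_periodicPts (w.injective.mem_periodicPts y)) (hdvd y hy).2)
    rw [hv]
    simp only [vf, if_neg (not_lt.2 hx)]
    rw [hthree hall _ (hxlt x hx) hmod, ← add_assoc, Nat.add_sub_cancel' hx, Nat.cast_add,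
      ZMod.natCast_zmod_val]
  · intro x
    by_cases hx : x ∈ S
    · exact hq ▸ hamax x hx
    · have hfx : w x = x := by
        by_contra h
        exact hx ((hSmem x).2 h)
      rw [minimalPeriod_eq_one_iff_isFixedPt.2 hfx]
      omega

end CfsgLib.FreePair
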