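import Cfsg.Agent.Lib.FreePair.Layout

/-!
Two non-trivial `p`-elements of the alternating group have conjugates forming a bad pair.
-/

set_option autoImplicit false

namespace CfsgLib.FreePair

open Equiv Function

variable {n p : ℕ}

/-- The product has order no power of `p` and the generated group is not solvable. -/
def Bad (p : ℕ) {G : Type*} [Group G] (x y : G) : Prop :=
  (¬ ∃ k : ℕ, orderOf (x * y) = p ^ k) ∧ ¬ Group.IsSolvable ↥(Subgroup.closure ({x, y} : Set G))

theorem bad_transfer (hp : p.Prime) {α β : Type*} {e : α → β} (he : Injective e) {u y : Perm β}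
    {u0 y0 : Perm α} (hu : ∀ x, u (e x) = e (u0 x)) (hy : ∀ x, y (e x) = e (y0 x))
    (hord : ¬ ∃ k : ℕ, orderOf (u0 * y0) = p ^ k)
    (hsol : ¬ Group.IsSolvable ↥(Subgroup.closure ({u0, y0} : Set (Perm α)))) : Bad p u y := by
  refine ⟨?_, ?_⟩
  · rintro ⟨k, hk⟩
    refine hord ?_
    have hpow : ∀ (i : ℕ) (x : α), ((u * y) ^ i) (e x) = e (((u0 * y0) ^ i) x) := by
      intro i
      induction i with
      | zero => intro x; simp
      | succ i ih => intro x; rw [pow_succ, pow_succ, Perm.mul_apply, Perm.mul_apply (f := (u0 * y0) ^ i),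
          Perm.mul_apply u y, hy, hu, ih, Perm.mul_apply]
    have h1 : (u0 * y0) ^ p ^ k = 1 := Equiv.ext fun x => he (by
      rw [← hpow, ← hk, pow_orderOf_eq_one]; rfl)
    obtain ⟨j, -, hj⟩ := (Nat.dvd_prime_pow hp).1 (orderOf_dvd_of_pow_eq_one h1)
    exact ⟨j, hj⟩
  · intro hs
    refine hsol ?_
    let C : Subgroup (Perm β × Perm α) := Subgroup.closure {(u, u0), (y, y0)}
    have hrel : ∀ c ∈ C, ∀ x, c.1 (e x) = e (c.2 x) := by
      intro c hc
      induction hc using Subgroup.closure_induction with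
      | mem c hc =>
        rcases hc with rfl | rfl
        · exact hu
        · exact hy
      | one => intro x; rfl
      | mul a b _ _ ha hb =>
        intro x
        rw [Prod.fst_mul, Prod.snd_mul, Perm.mul_apply, Perm.mul_apply, hb, ha]
      | inv a _ ha =>
        intro x
        rw [Prod.fst_inv, Prod.snd_inv, Perm.inv_eq_iff_eq, ha]
        exact congrArg e (Equiv.apply_symm_apply a.2 x).symm
    have hfst : C.map (MonoidHom.fst _ _) = Subgroup.closure {u, y} := by
      simp [C, MonoidHom.map_closure, Set.image_pair]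
    have hsnd : C.map (MonoidHom.snd _ _) = Subgroup.closure {u0, y0} := by
      simp [C, MonoidHom.map_closure, Set.image_pair]
    let φ : C →* Subgroup.closure ({u, y} : Set (Perm β)) :=
      ((MonoidHom.fst (Perm β) (Perm α)).comp C.subtype).codRestrict _
        fun c => hfst ▸ Subgroup.mem_map_of_mem _ c.2
    have hφ : Injective φ := fun c d h => by
      have h1 : c.1.1 = d.1.1 := congrArg Subtype.val h
      refine Subtype.ext (Prod.ext h1 (Equiv.ext fun x => he ?_))
      rw [← hrel _ c.2, ← hrel _ d.2, h1]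
    have hC : Group.IsSolvable C := solvable_of_solvable_injective hφ
    rw [← hsnd]
    exact solvable_of_surjective (f := (MonoidHom.snd (Perm β) (Perm α)).subgroupMap C)
      ((MonoidHom.snd (Perm β) (Perm α)).subgroupMap_surjective C)

theorem bad_conj {G : Type*} [Group G] {x y : G} (h : Bad p x y) (z : G) :
    Bad p (z * x * z⁻¹) (z * y * z⁻¹) := by
  obtain ⟨h1, h2⟩ := h
  refine ⟨?_, fun hs => h2 ?_⟩
  · rintro ⟨k, hk⟩
    refine h1 ⟨k, ?_⟩
    rw [← hk, ← orderOf_injective (MulAut.conj z).toMonoidHom (MulAut.conj z).injective (x * y)]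
    congr 1
    simp only [MulEquiv.coe_toMonoidHom, MulAut.conj_apply]
    group
  · let φ := (MulAut.conj z⁻¹).toMonoidHom
    have hmap : (Subgroup.closure ({z * x * z⁻¹, z * y * z⁻¹} : Set G)).map φ =
        Subgroup.closure {x, y} := by
      rw [MonoidHom.map_closure, Set.image_pair]
      simp [φ, MulAut.conj_apply, mul_assoc]
    rw [← hmap]
    exact solvable_of_surjective (φ.subgroupMap_surjective _)

theorem exists_perm_comp {α : Type*} {f g : α → Fin n} (hf : Injective f) (hg : Injective g) :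
    ∃ π : Perm (Fin n), ∀ x, π (f x) = g x := by
  classical
  let e : {x // x ∈ Set.range f} ≃ {x // x ∈ Set.range g} :=
    (Equiv.ofInjective f hf).symm.trans (Equiv.ofInjective g hg)
  refine ⟨e.extendSubtype, fun x => ?_⟩
  rw [Equiv.extendSubtype_apply_of_mem e (f x) ⟨x, rfl⟩]
  show ((Equiv.ofInjective g hg) ((Equiv.ofInjective f hf).symm ⟨f x, _⟩) : Fin n) = g x
  rw [Equiv.ofInjective_symm_apply, Equiv.ofInjective_apply]

theorem sign_cases {α : Type*} [DecidableEq α] [Fintype α] (σ : Perm α) :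
    Perm.sign σ = 1 ∨ Perm.sign σ = -1 := Int.units_eq_one_or _

/-- Few cycles of distinct lengths, or an odd centralising element. -/
theorem exists_odd_commute {w : Perm (Fin n)} (h : w.cycleType.Nodup → w.cycleType.sum + 1 < n) :
    ∃ z : Perm (Fin n), Perm.sign z = -1 ∧ z * w = w * z := by
  by_contra hno
  push Not at hno
  have hle : Subgroup.centralizer {w} ≤ alternatingGroup (Fin n) := by
    intro z hz
    rw [Subgroup.mem_centralizer_singleton_iff] at hz
    rcases sign_cases z with h1 | h1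
    · exact Perm.mem_alternatingGroup.2 h1
    · exact absurd hz (hno z h1)
  obtain ⟨-, h2, h3⟩ := Equiv.Perm.centralizer_le_alternating_iff.1 hle
  have := h (Multiset.nodup_iff_count_le_one.2 h3)
  rw [Fintype.card_fin] at h2
  omega

theorem le_of_mem_cycleType {w : Perm (Fin n)} {q c : ℕ} (h : ∀ x, minimalPeriod w x ≤ q)
    (hc : c ∈ w.cycleType) : c ≤ q := by
  rw [Perm.cycleType_def, Multiset.mem_map] at hc
  obtain ⟨σ, hσ, rfl⟩ := hc
  rw [Finset.mem_val] at hσ
  obtain ⟨hcyc, -⟩ := Perm.mem_cycleFactorsFinset_iff.1 hσ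
  obtain ⟨x, hx⟩ := hcyc.nonempty_support
  have hσx : σ = w.cycleOf x := Perm.cycle_is_cycleOf hx hσ
  have hper : (σ ^ minimalPeriod w x) x = x := by
    rw [hσx, Perm.cycleOf_pow_apply_self, Perm.coe_pow]
    exact iterate_minimalPeriod
  have h1 : σ ^ minimalPeriod w x = 1 := (hcyc.pow_eq_one_iff' (Perm.mem_support.1 hx)).2 hper
  refine le_trans (Nat.le_of_dvd (minimalPeriod_pos_of_mem_periodicPts (w.injective.mem_periodicPts x))
    ?_) (h x)
  simpa [comp_apply, hcyc.orderOf] using orderOf_dvd_of_pow_eq_one h1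

/-- Conjugate by an even permutation. -/
theorem bad_even {u w π z : Perm (Fin n)} (hz : Perm.sign z = -1) (hzw : z * w = w * z)
    (h : Bad p u (π * w * π⁻¹)) :
    ∃ g : Perm (Fin n), Perm.sign g = 1 ∧ Bad p u (g * w * g⁻¹) := by
  rcases sign_cases π with h1 | h1
  · exact ⟨π, h1, h⟩
  · refine ⟨π * z, by rw [map_mul, h1, hz]; rfl, ?_⟩
    have : π * z * w * (π * z)⁻¹ = π * w * π⁻¹ := by
      rw [mul_assoc π z w, hzw]; group
    rwa [this]

theorem conj_comp {α : Type*} {e f : α → Fin n} {π w : Perm (Fin n)} {τ v : Perm α}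
    (hwf : ∀ x, w (f x) = f (v x)) (hπ : ∀ x, π (f x) = e (τ x)) (x : α) :
    (π * w * π⁻¹) (e x) = e ((τ * v * τ⁻¹) x) := by
  obtain ⟨y, rfl⟩ := τ.surjective x
  rw [Perm.mul_apply, Perm.mul_apply, Perm.mul_apply, Perm.mul_apply, ← hπ]
  simp only [Perm.inv_def, Equiv.symm_apply_apply]
  rw [hwf, hπ]

/-- The longest cycle has length at least five. -/
theorem exists_bad_of_long [Fact p.Prime] (hp3 : 3 ≤ p) {u w : Perm (Fin n)} (hw : w ≠ 1)
    (hwpow : ∃ k, orderOf w = p ^ k) {m h : ℕ} (hm : m = p ^ h) (hm5 : 5 ≤ m) {a : Fin n}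
    (ha : minimalPeriod u a = m) (hwle : ∀ x, minimalPeriod w x ≤ m) :
    ∃ g : Perm (Fin n), Perm.sign g = 1 ∧ Bad p u (g * w * g⁻¹) := by
  classical
  have hp := (Fact.out : p.Prime)
  have : NeZero m := ⟨by omega⟩
  have hh : 1 ≤ h := by
    by_contra hlt
    obtain rfl : h = 0 := by omega
    rw [hm, pow_zero] at hm5
    omega
  have hdiv : p ∣ m := hm ▸ dvd_pow_self p (by omega)
  obtain ⟨kw, hkw⟩ := hwpow
  have hwpow' : ∀ x, ∃ k, minimalPeriod w x = p ^ k := fun x => by
    have hper : IsPeriodicPt w (orderOf w) x := by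
      show w^[orderOf w] x = x
      rw [← Perm.coe_pow, pow_orderOf_eq_one]; rfl
    have := hper.minimalPeriod_dvd
    rw [hkw] at this
    obtain ⟨j, -, hj⟩ := (Nat.dvd_prime_pow hp).1 this
    exact ⟨j, hj⟩
  have hwdvd : ∀ x, minimalPeriod w x ∣ m := fun x => by
    obtain ⟨k, hk⟩ := hwpow' x
    have := hwle x
    rw [hk, hm] at this
    rw [hk, hm]
    exact pow_dvd_pow p ((Nat.pow_le_pow_iff_right hp.two_le).1 this)
  let e : ZMod m → Fin n := fun x => u^[x.val] a
  have einj : Injective e := fun x y hxy => ZMod.val_injective m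
    (iterate_injOn_Iio_minimalPeriod (Set.mem_Iio.2 (ha ▸ ZMod.val_lt x))
      (Set.mem_Iio.2 (ha ▸ ZMod.val_lt y)) hxy)
  have hue : ∀ x, u (e x) = e (rot m x) := fun x => by
    show u (u^[x.val] a) = u^[(x + 1).val] a
    have : Fact (1 < m) := ⟨by omega⟩
    rw [ZMod.val_add, ZMod.val_one, ← iterate_succ_apply' u, ← iterate_mod_minimalPeriod_eq (f := u) (x := a),
      ha]
  have hmn : m ≤ n := by
    have := Fintype.card_le_of_injective e einj
    rwa [ZMod.card, Fintype.card_fin] at this
  obtain ⟨v, f, L, q, finj, hwf, D, hwq, k, hqk⟩ :=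
    exists_layout hp3 hdiv hmn w hw hwpow' hwdvd
  have hq3 := D.q3
  have hle := D.le
  have key : ∀ τ : Perm (ZMod m), Good p (τ * v * τ⁻¹) → ∀ π : Perm (Fin n),
      (∀ x, π (f x) = e (τ x)) → Bad p u (π * w * π⁻¹) := fun τ hτ π hπ =>
    bad_transfer hp einj hue (conj_comp hwf hπ) hτ.2 hτ.1
  rcases eq_or_lt_of_le (show q ≤ m by omega) with hqm | hqm
  · -- a cycle of the same length
    have hv : v = (rot m)⁻¹ := by
      refine Equiv.ext fun x => ?_
      rw [Perm.eq_inv_iff_eq, rot_apply]
      rcases Nat.eq_zero_or_pos x.val with hx | hx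
      · have hs := D.start
        rw [show L = 0 by omega, Nat.cast_zero, show 0 + q - 1 = m - 1 by omega] at hs
        rw [(ZMod.val_eq_zero x).1 hx, hs, ← Nat.cast_one (R := ZMod m), ← Nat.cast_add,
          Nat.sub_add_cancel (by omega), ZMod.natCast_self]
      · have hf := D.first x.val hx (hqm ▸ ZMod.val_lt x)
        rw [show L = 0 by omega, Nat.zero_add, ZMod.natCast_zmod_val] at hf
        rw [hf, ← Nat.cast_one (R := ZMod m), ← Nat.cast_add, Nat.sub_add_cancel hx, ZMod.natCast_zmod_val]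
    obtain ⟨τ, τ', hne, h1, h2⟩ := good_of_cycle (h := h) hp3 hm hdiv hm5
    rw [← hv] at h1 h2
    obtain ⟨π, hπ⟩ := exists_perm_comp (g := fun x => e (τ x)) finj (einj.comp τ.injective)
    rcases sign_cases π with hs | hs
    · exact ⟨π, hs, key τ h1 π hπ⟩
    · let γ : Perm (Fin n) := (τ⁻¹ * τ').extendDomain (Equiv.ofInjective f finj)
      refine ⟨π * γ, ?_, key τ' h2 _ fun x => ?_⟩
      · rw [map_mul, Perm.sign_extendDomain, map_mul, map_inv, hs]
        rcases sign_cases τ with a | a <;> rcases sign_cases τ' with b | b <;> rw [a, b] at hne ⊢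
        all_goals first | exact absurd rfl hne | rfl
      · rw [Perm.mul_apply, show γ (f x) = f ((τ⁻¹ * τ') x) from
          Perm.extendDomain_apply_image _ (Equiv.ofInjective f finj) x, hπ, Perm.mul_apply]
        exact congrArg e (Equiv.apply_symm_apply τ _)
  · have hkh : k < h := by
      rw [hqk, hm] at hqm
      exact (Nat.pow_lt_pow_iff_right hp.one_lt).1 hqm
    have hk1 : 1 ≤ k := by
      by_contra hlt
      obtain rfl : k = 0 := by omega
      rw [hqk, pow_zero] at hq3
      omega
    obtain ⟨z, hz, hzw⟩ : ∃ z : Perm (Fin n), Perm.sign z = -1 ∧ z * w = w * z := by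
      refine exists_odd_commute fun hnd => ?_
      have hex : ∀ c ∈ w.cycleType, ∃ j, 1 ≤ j ∧ j < h ∧ c = p ^ j := by
        intro c hc
        obtain ⟨j, -, hj⟩ := (Nat.dvd_prime_pow hp).1 (hkw ▸ Perm.dvd_of_mem_cycleType hc)
        refine ⟨j, ?_, ?_, hj⟩
        · have := Perm.two_le_of_mem_cycleType hc
          by_contra hlt
          obtain rfl : j = 0 := by omega
          rw [hj, pow_zero] at this
          omega
        · have := le_trans (le_of_mem_cycleType hwq hc) (le_of_eq hqk)
          rw [hj] at this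
          exact lt_of_le_of_lt ((Nat.pow_le_pow_iff_right hp.two_le).1 this) hkh
      have hsub : w.cycleType.toFinset ⊆ (Finset.Ico 1 h).image (p ^ ·) := fun c hc => by
        obtain ⟨j, h1, h2, rfl⟩ := hex c (Multiset.mem_toFinset.1 hc)
        exact Finset.mem_image.2 ⟨j, Finset.mem_Ico.2 ⟨h1, h2⟩, rfl⟩
      have hsum : w.cycleType.sum ≤ ∑ j ∈ Finset.Ico 1 h, p ^ j := by
        rw [← Finset.sum_image (g := fun j => p ^ j) (f := fun x => x)
          fun a _ b _ e => Nat.pow_right_injective hp.two_le e]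
        refine le_trans (le_of_eq ?_) (Finset.sum_le_sum_of_subset hsub)
        rw [Finset.sum_eq_multiset_sum, Multiset.toFinset_val, Multiset.dedup_eq_self.2 hnd,
          Multiset.map_id']
      have hgeom := Nat.geomSum_lt hp.two_le (s := insert 0 (Finset.Ico 1 h))
        (n := h) (by intro j hj; simp at hj; omega)
      rw [Finset.sum_insert (by simp), pow_zero, ← hm] at hgeom
      omega
    have hgood : ∃ τ : Perm (ZMod m), Good p (τ * v * τ⁻¹) := by
      rcases Nat.eq_zero_or_pos L with rfl | hLpos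
      · rcases Nat.lt_or_ge q 5 with hq5 | hq5
        · have hpq : p ≤ q := hqk ▸ Nat.le_self_pow (by omega) p
          have hp3' : p = 3 := by
            rcases Nat.lt_or_ge p 4 with h4 | h4
            · omega
            · obtain rfl : p = 4 := by omega
              exact absurd hp (by norm_num)
          have hqp : q = p := by
            rcases Nat.lt_or_ge k 2 with h2 | h2
            · rw [hqk, show k = 1 by omega, pow_one]
            · have := Nat.pow_le_pow_right hp.pos h2
              rw [← hqk, hp3'] at this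
              omega
          exact good_of_threes hp3' hm (by omega) hdiv (hqp ▸ D)
        · refine good_of_long hp3 hm hdiv D hq5 ?_
          calc 5 * p ≤ q * p := Nat.mul_le_mul_right p hq5
            _ = p ^ (k + 1) := by rw [pow_succ, hqk]
            _ ≤ m := hm ▸ Nat.pow_le_pow_right hp.pos (by omega)
      · exact good_of_gap hp3 hm hdiv D hLpos
    obtain ⟨τ, hτ⟩ := hgood
    obtain ⟨π, hπ⟩ := exists_perm_comp (g := fun x => e (τ x)) finj (einj.comp τ.injective)
    exact bad_even hz hzw (key τ hτ π hπ)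

/-- The swapped pair. -/
theorem bad_swap {G : Type*} [Group G] {x y g : G} (h : Bad p y (g * x * g⁻¹)) :
    Bad p x (g⁻¹ * y * g⁻¹⁻¹) := by
  obtain ⟨h1, h2⟩ := bad_conj h g⁻¹
  have e : g⁻¹ * (g * x * g⁻¹) * g⁻¹⁻¹ = x := by group
  rw [e] at h1 h2
  refine ⟨?_, by rwa [Set.pair_comm]⟩
  rintro ⟨k, hk⟩
  refine h1 ⟨k, ?_⟩
  rw [← hk]
  have hsc : SemiconjBy x ((g⁻¹ * y * g⁻¹⁻¹) * x) (x * (g⁻¹ * y * g⁻¹⁻¹)) := (mul_assoc _ _ _).symm
  exact hsc.orderOf_eq

end CfsgLib.FreePair
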