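import Cfsg.Agent.Lib.FreePair.Main

/-!
Two products of three-cycles.
-/

set_option autoImplicit false

namespace CfsgLib.FreePair

open Equiv Function

variable {n : ℕ}

theorem bad_cert {k r : ℕ} [Fact (Nat.Prime 3)] (u0 v0 : Perm (Fin k)) (x : Fin k) (a b : Perm (Fin k))
    (ha : a ∈ Subgroup.closure ({u0, v0} : Set (Perm (Fin k))))
    (hb : b ∈ Subgroup.closure ({u0, v0} : Set (Perm (Fin k))))
    (h2 : ∀ i, a (a i) = i) (h3 : ∀ i, b (b (b i)) = i)
    (h5 : ∀ i, (a * b) ((a * b) ((a * b) ((a * b) ((a * b) i)))) = i) (ha1 : ∃ i, a i ≠ i)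
    (hr : ¬ 3 ∣ r) (hper : (⇑(u0 * v0))^[r] x = x) (hne : (u0 * v0) x ≠ x) :
    (¬ ∃ j : ℕ, orderOf (u0 * v0) = 3 ^ j) ∧
      ¬ Group.IsSolvable ↥(Subgroup.closure ({u0, v0} : Set (Perm (Fin k)))) := by
  refine ⟨not_pPow_of_period (x := x) hr (by rw [Perm.coe_pow]; exact hper) hne, ?_⟩
  refine not_isSolvable_of_triangle (⟨a, ha⟩ : Subgroup.closure ({u0, v0} : Set (Perm (Fin k)))) ⟨b, hb⟩
    (Subtype.ext (Equiv.ext fun i => h2 i)) (Subtype.ext (Equiv.ext fun i => h3 i))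
    (Subtype.ext (Equiv.ext fun i => h5 i)) fun e => ?_
  obtain ⟨i, hi⟩ := ha1
  exact hi (congrArg (fun g : Perm (Fin k) => g i) (congrArg Subtype.val e))

/-- `(0 1 2)` on five points. -/
def u5 : Perm (Fin 5) := ⟨![1, 2, 0, 3, 4], ![2, 0, 1, 3, 4], by decide, by decide⟩
/-- `(0 3 4)`. -/
def v5 : Perm (Fin 5) := ⟨![3, 1, 2, 4, 0], ![4, 1, 2, 0, 3], by decide, by decide⟩
/-- `(0 1 2)` on six points. -/
def u6 : Perm (Fin 6) := ⟨![1, 2, 0, 3, 4, 5], ![2, 0, 1, 3, 4, 5], by decide, by decide⟩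
/-- `(0 1 3)(2 4 5)`. -/
def v6 : Perm (Fin 6) := ⟨![1, 3, 4, 0, 5, 2], ![3, 0, 5, 1, 2, 4], by decide, by decide⟩
/-- `(0 1 2)(3 4 5)`. -/
def uu6 : Perm (Fin 6) := ⟨![1, 2, 0, 4, 5, 3], ![2, 0, 1, 5, 3, 4], by decide, by decide⟩
/-- `(0 1 3)(2 5 4)`. -/
def vv6 : Perm (Fin 6) := ⟨![1, 3, 5, 0, 2, 4], ![3, 0, 4, 1, 5, 2], by decide, by decide⟩

theorem cert5 [Fact (Nat.Prime 3)] : (¬ ∃ j : ℕ, orderOf (u5 * v5) = 3 ^ j) ∧
    ¬ Group.IsSolvable ↥(Subgroup.closure ({u5, v5} : Set (Perm (Fin 5)))) :=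
  have hu : u5 ∈ Subgroup.closure ({u5, v5} : Set _) := Subgroup.subset_closure (by simp)
  have hv : v5 ∈ Subgroup.closure ({u5, v5} : Set _) := Subgroup.subset_closure (by simp)
  bad_cert (r := 5) u5 v5 0 (u5 * u5 * v5 * u5 * v5) u5
    (mul_mem (mul_mem (mul_mem (mul_mem hu hu) hv) hu) hv) hu
    (by decide) (by decide) (by decide) (by decide) (by decide) (by decide) (by decide)

theorem cert6 [Fact (Nat.Prime 3)] : (¬ ∃ j : ℕ, orderOf (u6 * v6) = 3 ^ j) ∧
    ¬ Group.IsSolvable ↥(Subgroup.closure ({u6, v6} : Set (Perm (Fin 6)))) :=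
  have hu : u6 ∈ Subgroup.closure ({u6, v6} : Set _) := Subgroup.subset_closure (by simp)
  have hv : v6 ∈ Subgroup.closure ({u6, v6} : Set _) := Subgroup.subset_closure (by simp)
  bad_cert (r := 4) u6 v6 0 (u6 * v6 * u6 * v6) u6
    (mul_mem (mul_mem (mul_mem hu hv) hu) hv) hu
    (by decide) (by decide) (by decide) (by decide) (by decide) (by decide) (by decide)

theorem cert66 [Fact (Nat.Prime 3)] : (¬ ∃ j : ℕ, orderOf (uu6 * vv6) = 3 ^ j) ∧
    ¬ Group.IsSolvable ↥(Subgroup.closure ({uu6, vv6} : Set (Perm (Fin 6)))) :=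
  have hu : uu6 ∈ Subgroup.closure ({uu6, vv6} : Set _) := Subgroup.subset_closure (by simp)
  have hv : vv6 ∈ Subgroup.closure ({uu6, vv6} : Set _) := Subgroup.subset_closure (by simp)
  bad_cert (r := 5) uu6 vv6 0 (uu6 * uu6 * vv6 * uu6 * vv6) uu6
    (mul_mem (mul_mem (mul_mem (mul_mem hu hu) hv) hu) hv) hu
    (by decide) (by decide) (by decide) (by decide) (by decide) (by decide) (by decide)

/-- One three-cycle and two further fixed points, or two three-cycles. -/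
theorem shape (hn : 5 ≤ n) {w : Perm (Fin n)} (hw : w ≠ 1) (h3 : ∀ x, w (w (w x)) = x) :
    (∃ a b : Fin n, w a ≠ a ∧ w b ≠ b ∧ b ≠ a ∧ b ≠ w a ∧ b ≠ w (w a)) ∨
      (∃ a b c : Fin n, w a ≠ a ∧ w b = b ∧ w c = c ∧ b ≠ c ∧
        (5 < n → ∃ d, w d = d ∧ d ≠ b ∧ d ≠ c)) := by
  classical
  obtain ⟨a, ha⟩ : ∃ a, w a ≠ a := by
    by_contra h
    push Not at h
    exact hw (Equiv.ext h)
  by_cases hb : ∃ b, w b ≠ b ∧ b ≠ a ∧ b ≠ w a ∧ b ≠ w (w a)
  · obtain ⟨b, hb⟩ := hb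
    exact Or.inl ⟨a, b, ha, hb⟩
  · push Not at hb
    let F := (Finset.univ : Finset (Fin n)) \ {a, w a, w (w a)}
    have hfix : ∀ x ∈ F, w x = x := by
      intro x hx
      simp only [F, Finset.mem_sdiff, Finset.mem_insert, Finset.mem_singleton, not_or] at hx
      by_contra hne
      exact hx.2.2.2 (hb x hne hx.2.1 hx.2.2.1)
    have hcard : n - 3 ≤ F.card := by
      have h1 := Finset.le_card_sdiff {a, w a, w (w a)} (Finset.univ : Finset (Fin n))
      have h2 := Finset.card_le_three (a := a) (b := w a) (c := w (w a))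
      rw [Finset.card_univ, Fintype.card_fin] at h1
      show n - 3 ≤ (Finset.univ \ {a, w a, w (w a)}).card
      omega
    obtain ⟨b, hbF, c, hcF, hbc⟩ := Finset.one_lt_card.1 (show 1 < F.card by omega)
    refine Or.inr ⟨a, b, c, ha, hfix b hbF, hfix c hcF, hbc, fun h6 => ?_⟩
    obtain ⟨d, hd⟩ := Finset.card_pos.1 (show 0 < ((F.erase b).erase c).card by
      rw [Finset.card_erase_of_mem (Finset.mem_erase.2 ⟨hbc.symm, hcF⟩), Finset.card_erase_of_mem hbF]
      omega)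
    rw [Finset.mem_erase, Finset.mem_erase] at hd
    exact ⟨d, hfix d hd.2.2, hd.2.1, hd.1⟩

theorem orbit_ne {w : Perm (Fin n)} (h3 : ∀ x, w (w (w x)) = x) {a : Fin n} (ha : w a ≠ a) :
    w (w a) ≠ a ∧ w (w a) ≠ w a := by
  refine ⟨fun e => ha ?_, fun e => ha (w.injective e)⟩
  have := congrArg w e
  rw [h3] at this
  exact this.symm

theorem two_ne {w : Perm (Fin n)} (h3 : ∀ x, w (w (w x)) = x) {a b : Fin n}
    (hab : b ≠ a ∧ b ≠ w a ∧ b ≠ w (w a)) :
    (w b ≠ a ∧ w b ≠ w a ∧ w b ≠ w (w a)) ∧ (w (w b) ≠ a ∧ w (w b) ≠ w a ∧ w (w b) ≠ w (w a)) := by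
  obtain ⟨h1, h2, h4⟩ := hab
  exact ⟨⟨fun e => h4 (w.injective (by rw [h3]; exact e)), fun e => h1 (w.injective e),
    fun e => h2 (w.injective e)⟩,
    ⟨fun e => h2 (by rw [← e, h3]), fun e => h4 (w.injective (by rw [h3]; exact w.injective (by rw [e]))),
      fun e => h1 (w.injective (w.injective e))⟩⟩

theorem fixed_ne {w : Perm (Fin n)} {a b : Fin n} (ha : w a ≠ a) (hb : w b = b) :
    b ≠ a ∧ b ≠ w a ∧ b ≠ w (w a) :=
  ⟨fun e => ha (e ▸ hb), fun e => ha (w.injective (e ▸ hb)),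
    fun e => ha (w.injective (w.injective (e ▸ hb)))⟩

theorem inj5 {α : Type*} {a b c d e : α} (h : [a, b, c, d, e].Nodup) : Injective ![a, b, c, d, e] :=
  List.nodup_ofFn.1 (by simpa [List.ofFn_succ] using h)

theorem inj6 {α : Type*} {a b c d e f : α} (h : [a, b, c, d, e, f].Nodup) : Injective ![a, b, c, d, e, f] :=
  List.nodup_ofFn.1 (by simpa [List.ofFn_succ] using h)

/-- All cycles have length three. -/
theorem exists_bad_small [Fact (Nat.Prime 3)] (hn : 5 ≤ n) {u w : Perm (Fin n)} (hu : u ≠ 1) (hw : w ≠ 1)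
    (hu3 : ∀ x, u (u (u x)) = x) (hw3 : ∀ x, w (w (w x)) = x) :
    ∃ g : Perm (Fin n), Perm.sign g = 1 ∧ Bad 3 u (g * w * g⁻¹) := by
  have hodd : ∀ z : Perm (Fin n), (∀ x, z (z (z x)) = x) →
      ∃ o : Perm (Fin n), Perm.sign o = -1 ∧ o * z = z * o := by
    intro z hz
    refine exists_odd_commute fun hnd => ?_
    have hsub : z.cycleType.toFinset ⊆ {3} := fun c hc => by
      rw [Multiset.mem_toFinset] at hc
      rw [Finset.mem_singleton]
      have hd : c ∣ 3 := dvd_trans (Perm.dvd_of_mem_cycleType hc) (orderOf_dvd_of_pow_eq_one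
        (Equiv.ext fun x => hz x))
      rcases (Nat.dvd_prime Nat.prime_three).1 hd with rfl | rfl
      · exact absurd (Perm.two_le_of_mem_cycleType hc) (by norm_num)
      · rfl
    have hsum : z.cycleType.toFinset.sum id ≤ ({3} : Finset ℕ).sum id := Finset.sum_le_sum_of_subset hsub
    rw [Finset.sum_singleton, Finset.sum_eq_multiset_sum, Multiset.toFinset_val,
      Multiset.dedup_eq_self.2 hnd, Multiset.map_id] at hsum
    simp only [id] at hsum
    omega
  have build : ∀ {k : ℕ} (u0 v0 : Perm (Fin k)) (x y : Perm (Fin n)) (f g : Fin k → Fin n),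
      ((¬ ∃ j : ℕ, orderOf (u0 * v0) = 3 ^ j) ∧
        ¬ Group.IsSolvable ↥(Subgroup.closure ({u0, v0} : Set (Perm (Fin k))))) →
      Injective f → Injective g → (∀ i, x (f i) = f (u0 i)) → (∀ i, y (g i) = g (v0 i)) →
      (∀ i, y (y (y i)) = i) → ∃ π : Perm (Fin n), Perm.sign π = 1 ∧ Bad 3 x (π * y * π⁻¹) := by
    intro k u0 v0 x y f g hc hf hg hx hy hy3
    obtain ⟨π, hπ⟩ := exists_perm_comp hg hf
    obtain ⟨o, ho, hoy⟩ := hodd y hy3
    exact bad_even ho hoy (bad_transfer Nat.prime_three hf hx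
      (fun i => by simpa using conj_comp (τ := 1) hy hπ i) hc.1 hc.2)
  have mixed : ∀ {x y : Perm (Fin n)}, (∀ i, x (x (x i)) = i) → (∀ i, y (y (y i)) = i) →
      ∀ {a' b' : Fin n}, y a' ≠ a' → y b' ≠ b' → b' ≠ a' ∧ b' ≠ y a' ∧ b' ≠ y (y a') →
      ∀ {a b c : Fin n}, x a ≠ a → x b = b → x c = c → b ≠ c →
      (5 < n → ∃ d, x d = d ∧ d ≠ b ∧ d ≠ c) →
      ∃ π : Perm (Fin n), Perm.sign π = 1 ∧ Bad 3 x (π * y * π⁻¹) := by
    intro x y hx3 hy3 a' b' ha' hb' hab' a b c ha hb hc hbc h6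
    have hinj : Injective ![a', y a', b', y (y a'), y b', y (y b')] := by
      have := orbit_ne hy3 ha'; have := orbit_ne hy3 hb'; have := two_ne hy3 hab'
      refine inj6 ?_
      simp only [List.nodup_cons, List.mem_cons, List.not_mem_nil, List.nodup_nil, or_false, not_or, and_true, not_false_eq_true]
      grind
    obtain ⟨d, hd, hdb, hdc⟩ := h6 (by
      have := Fintype.card_le_of_injective _ hinj
      simp at this
      omega)
    refine build u6 v6 x y ![a, x a, x (x a), b, c, d] ![a', y a', b', y (y a'), y b', y (y b')]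
      cert6 ?_ hinj ?_ ?_ hy3
    · have := orbit_ne hx3 ha; have := fixed_ne ha hb; have := fixed_ne ha hc; have := fixed_ne ha hd
      refine inj6 ?_
      simp only [List.nodup_cons, List.mem_cons, List.not_mem_nil, List.nodup_nil, or_false, not_or, and_true, not_false_eq_true]
      grind
    · intro i; fin_cases i <;> simp [u6, hx3, hb, hc, hd]
    · intro i; fin_cases i <;> simp [v6, hy3]
  rcases shape hn hu hu3 with ⟨a, b, ha, hb, hab⟩ | ⟨a, b, c, ha, hb, hc, hbc, h6⟩ <;>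
    rcases shape hn hw hw3 with ⟨a', b', ha', hb', hab'⟩ | ⟨a', b', c', ha', hb', hc', hbc', h6'⟩
  · refine build uu6 vv6 u w ![a, u a, u (u a), b, u b, u (u b)]
      ![a', w a', b', w (w a'), w (w b'), w b'] cert66 ?_ ?_ ?_ ?_ hw3
    · have := orbit_ne hu3 ha; have := orbit_ne hu3 hb; have := two_ne hu3 hab
      refine inj6 ?_
      simp only [List.nodup_cons, List.mem_cons, List.not_mem_nil, List.nodup_nil, or_false, not_or, and_true, not_false_eq_true]
      grind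
    · have := orbit_ne hw3 ha'; have := orbit_ne hw3 hb'; have := two_ne hw3 hab'
      refine inj6 ?_
      simp only [List.nodup_cons, List.mem_cons, List.not_mem_nil, List.nodup_nil, or_false, not_or, and_true, not_false_eq_true]
      grind
    · intro i; fin_cases i <;> simp [uu6, hu3]
    · intro i; fin_cases i <;> simp [vv6, hw3]
  · obtain ⟨g, hg, hbad⟩ := mixed hw3 hu3 ha hb hab ha' hb' hc' hbc' h6'
    exact ⟨g⁻¹, by rw [map_inv, hg, inv_one], bad_swap hbad⟩
  · exact mixed hu3 hw3 ha' hb' hab' ha hb hc hbc h6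
  · refine build u5 v5 u w ![a, u a, u (u a), b, c] ![a', b', c', w a', w (w a')] cert5 ?_ ?_ ?_ ?_ hw3
    · have := orbit_ne hu3 ha; have := fixed_ne ha hb; have := fixed_ne ha hc
      refine inj5 ?_
      simp only [List.nodup_cons, List.mem_cons, List.not_mem_nil, List.nodup_nil, or_false, not_or, and_true, not_false_eq_true]
      grind
    · have := orbit_ne hw3 ha'; have := fixed_ne ha' hb'; have := fixed_ne ha' hc'
      refine inj5 ?_
      simp only [List.nodup_cons, List.mem_cons, List.not_mem_nil, List.nodup_nil, or_false, not_or, and_true, not_false_eq_true]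
      grind
    · intro i; fin_cases i <;> simp [u5, hu3, hb, hc]
    · intro i; fin_cases i <;> simp [v5, hw3, hb', hc']

end CfsgLib.FreePair
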