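import Cfsg.Agent.Lib.FreePair.Criterion

/-!
For every shape of a `p`-element `v` of `Sym(ℤ/p^h)` a conjugate `τ v τ⁻¹` that generates with the
rotation a non-solvable group and multiplies with it to an element whose order is no power of `p`.
-/

set_option autoImplicit false

namespace CfsgLib.FreePair

open Equiv

variable {p h m : ℕ}

/-- The rotation and `w` are a good pair. -/
def Good (p : ℕ) {m : ℕ} (w : Perm (ZMod m)) : Prop :=
  (¬ Group.IsSolvable ↥(Subgroup.closure ({rot m, w} : Set (Perm (ZMod m))))) ∧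
    ¬ ∃ k : ℕ, orderOf (rot m * w) = p ^ k

theorem rot_mem {m : ℕ} (w : Perm (ZMod m)) : rot m ∈ Subgroup.closure ({rot m, w} : Set (Perm (ZMod m))) :=
  Subgroup.subset_closure (by simp)

theorem w_mem {m : ℕ} (w : Perm (ZMod m)) : w ∈ Subgroup.closure ({rot m, w} : Set (Perm (ZMod m))) :=
  Subgroup.subset_closure (by simp)

theorem cast_ne {a b : ℕ} (ha : a < m) (hb : b < m) (hab : a ≠ b) : (a : ZMod m) ≠ (b : ZMod m) := by
  intro e
  have := congrArg ZMod.val e
  rw [ZMod.val_cast_of_lt ha, ZMod.val_cast_of_lt hb] at this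
  exact hab this

/-- Adding `μ` to a small point stays away from small points. -/
theorem shift_ne {a b μ : ℕ} (hμ : a + μ < b + m) (hba : b < a + μ) :
    (a : ZMod m) + (μ : ZMod m) ≠ (b : ZMod m) := by
  intro e
  rw [← Nat.cast_add, ZMod.natCast_eq_natCast_iff'] at e
  have h1 := (Nat.modEq_iff_dvd' (le_of_lt hba)).1 e.symm
  exact absurd (Nat.le_of_dvd (by omega) h1) (by omega)

theorem res_natCast (hdiv : p ∣ m) (a : ℕ) : res hdiv (a : ZMod m) = (a : ZMod p) := map_natCast _ _

theorem mu_facts [Fact p.Prime] (hp3 : 3 ≤ p) (hm : m = p ^ h) (hh : 2 ≤ h) :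
    p ∣ p ^ (h - 1) ∧ p ≤ p ^ (h - 1) ∧ p ^ (h - 1) * p = m := by
  refine ⟨dvd_pow_self p (by omega), Nat.le_self_pow (by omega) p, ?_⟩
  rw [hm, ← pow_succ]
  congr 1
  omega

theorem res_mu (hdiv : p ∣ m) (hh : 2 ≤ h) (x : ZMod m) :
    res hdiv (x + (p ^ (h - 1) : ℕ)) = res hdiv x := by
  rw [map_add, res_natCast, Nat.cast_pow, ZMod.natCast_self, zero_pow (by omega), add_zero]

/-- A permutation whose moved cycles are decreasing intervals after `L` fixed points. -/
structure Down (p : ℕ) {m : ℕ} (hdiv : p ∣ m) (v : Perm (ZMod m)) (L q : ℕ) : Prop where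
  q3 : 3 ≤ q
  le : L + q ≤ m
  Ldvd : p ∣ L
  fixed : ∀ x : ZMod m, x.val < L → v x = x
  shift : ∀ x : ZMod m, L ≤ x.val → res hdiv (v x) = res hdiv x - 1
  first : ∀ i, 1 ≤ i → i < q → v ((L + i : ℕ) : ZMod m) = ((L + i - 1 : ℕ) : ZMod m)
  start : v (L : ZMod m) = ((L + q - 1 : ℕ) : ZMod m)
  count : (p - 1) * (m - L) ≤ p * Nat.card {x : ZMod m // v x = x - 1}
  three : q = p → ∀ x : ZMod m, L ≤ x.val → (x.val - L) % p = 0 → v x = x + ((p - 1 : ℕ) : ZMod m)

theorem conj_apply {α : Type*} (τ v : Perm α) (x y : α) (h : v x = y) : (τ * v * τ⁻¹) (τ x) = τ y := by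
  rw [Perm.mul_apply, Perm.mul_apply, Perm.inv_def, Equiv.symm_apply_apply, h]

/-- With a fixed point. -/
theorem good_of_gap [Fact p.Prime] (hp3 : 3 ≤ p) (hm : m = p ^ h) (hdiv : p ∣ m) {v : Perm (ZMod m)}
    {L q : ℕ} (D : Down p hdiv v L q) (hL : 0 < L) : ∃ τ : Perm (ZMod m), Good p (τ * v * τ⁻¹) := by
  classical
  have hp := (Fact.out : p.Prime)
  haveI : NeZero m := ⟨hm ▸ (pow_pos hp.pos h).ne'⟩
  have hL3 : 3 ≤ L := le_trans hp3 (Nat.le_of_dvd hL D.Ldvd)
  have hq := D.q3
  have hle := D.le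
  obtain ⟨a, ha⟩ : ∃ a : ZMod m, a = ((L - 1 : ℕ) : ZMod m) := ⟨_, rfl⟩
  obtain ⟨b, hb⟩ : ∃ b : ZMod m, b = ((L : ℕ) : ZMod m) := ⟨_, rfl⟩
  obtain ⟨c, hc⟩ : ∃ c : ZMod m, c = ((L + 1 : ℕ) : ZMod m) := ⟨_, rfl⟩
  obtain ⟨d, hd⟩ : ∃ d : ZMod m, d = ((L + 2 : ℕ) : ZMod m) := ⟨_, rfl⟩
  obtain ⟨t, htdef⟩ : ∃ t : ZMod m, t = ((L + q - 1 : ℕ) : ZMod m) := ⟨_, rfl⟩
  have hab : a ≠ b := ha ▸ hb ▸ cast_ne (by omega) (by omega) (by omega)
  have hac : a ≠ c := ha ▸ hc ▸ cast_ne (by omega) (by omega) (by omega)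
  have hbc : b ≠ c := hb ▸ hc ▸ cast_ne (by omega) (by omega) (by omega)
  have hda : d ≠ a := hd ▸ ha ▸ cast_ne (by omega) (by omega) (by omega)
  have hdb : d ≠ b := hd ▸ hb ▸ cast_ne (by omega) (by omega) (by omega)
  have hdc : d ≠ c := hd ▸ hc ▸ cast_ne (by omega) (by omega) (by omega)
  have hta : t ≠ a := htdef ▸ ha ▸ cast_ne (by omega) (by omega) (by omega)
  have htb : t ≠ b := htdef ▸ hb ▸ cast_ne (by omega) (by omega) (by omega)
  have htc : t ≠ c := htdef ▸ hc ▸ cast_ne (by omega) (by omega) (by omega)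
  have va : v a = a := D.fixed a (by rw [ha, ZMod.val_cast_of_lt (by omega)]; omega)
  have vb : v b = t := by rw [hb, htdef]; exact D.start
  have vc : v c = b := by
    rw [hc, hb]
    simpa using D.first 1 le_rfl (by omega)
  have vd : v d = c := by
    rw [hd, hc]
    simpa using D.first 2 (by omega) (by omega)
  set τ : Perm (ZMod m) := swap b c * swap a b with hτ
  have τa : τ a = c := by rw [hτ, Perm.mul_apply, swap_apply_left, swap_apply_left]
  have τb : τ b = a := by rw [hτ, Perm.mul_apply, swap_apply_right, swap_apply_of_ne_of_ne hab hac]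
  have τc : τ c = b := by
    rw [hτ, Perm.mul_apply, swap_apply_of_ne_of_ne hac.symm hbc.symm, swap_apply_right]
  have τo : ∀ x, x ≠ a → x ≠ b → x ≠ c → τ x = x := fun x h1 h2 h3 => by
    rw [hτ, Perm.mul_apply, swap_apply_of_ne_of_ne h1 h2, swap_apply_of_ne_of_ne h2 h3]
  set w := τ * v * τ⁻¹ with hw
  have wc : w c = c := by
    have := conj_apply τ v a a va
    rwa [τa] at this
  have wb : w b = a := by
    have := conj_apply τ v c b vc
    rwa [τc, τb] at this
  have wd : w d = b := by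
    have := conj_apply τ v d c vd
    rwa [τc, τo d hda hdb hdc] at this
  have wa : w a = t := by
    have := conj_apply τ v b t vb
    rwa [τb, τo t hta htb htc] at this
  have wo : ∀ x, x ≠ a → x ≠ b → x ≠ c → x ≠ d → w x = v x := by
    intro x h1 h2 h3 h4
    have := conj_apply τ v x (v x) rfl
    rw [τo x h1 h2 h3] at this
    rw [this]
    exact τo _ (fun e => h1 (v.injective (e.trans va.symm))) (fun e => h3 (v.injective (e.trans vc.symm)))
      (fun e => h4 (v.injective (e.trans vd.symm)))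
  have hcd : c + 1 = d := by rw [hc, hd, ← Nat.cast_one (R := ZMod m), ← Nat.cast_add]
  have hbc1 : b + 1 = c := by rw [hb, hc, ← Nat.cast_one (R := ZMod m), ← Nat.cast_add]
  have hab1 : a + 1 = b := by
    rw [ha, hb, ← Nat.cast_one (R := ZMod m), ← Nat.cast_add, Nat.sub_add_cancel (by omega)]
  have gc : (rot m * w) c = d := by rw [Perm.mul_apply, wc, rot_apply, hcd]
  have gd : (rot m * w) d = c := by rw [Perm.mul_apply, wd, rot_apply, hbc1]
  refine ⟨τ, ?_, ?_⟩
  swap
  · refine not_pPow_of_period (x := c) (r := 2) (fun h2 => ?_) ?_ (by rw [gc]; exact hdc)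
    · have := Nat.le_of_dvd (by norm_num) h2; omega
    · rw [sq, Perm.mul_apply, gc, gd]
  have hbreak : 2 ≤ h → ∃ x, res hdiv (w (x + (p ^ (h - 1) : ℕ))) ≠ res hdiv (w x) := by
    intro hh
    obtain ⟨hpμ, hμ3, hμm⟩ := mu_facts hp3 hm hh
    refine ⟨d, ?_⟩
    set y := d + ((p ^ (h - 1) : ℕ) : ZMod m) with hy
    have h3μ : 3 * p ^ (h - 1) ≤ m := by rw [← hμm, mul_comm]; exact Nat.mul_le_mul_left _ hp3
    have hne : ∀ i, L - 1 ≤ i → i ≤ L + 2 → y ≠ ((i : ℕ) : ZMod m) := fun i h1 h2 => by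
      rw [hy, hd]
      exact shift_ne (by omega) (by omega)
    rw [wd, wo y (ha ▸ hne _ le_rfl (by omega)) (hb ▸ hne _ (by omega) (by omega))
      (hc ▸ hne _ (by omega) (by omega)) (hd ▸ hne _ (by omega) le_rfl)]
    have hry : res hdiv y = res hdiv b + 2 := by
      rw [hy, res_mu hdiv hh, hd, hb, res_natCast, res_natCast, Nat.cast_add, Nat.cast_ofNat]
    by_cases hyL : y.val < L
    · rw [D.fixed y hyL, hry]
      intro e
      have h2 : ((2 : ℕ) : ZMod p) = 0 := by push_cast; linear_combination e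
      rw [ZMod.natCast_eq_zero_iff] at h2
      have := Nat.le_of_dvd (by norm_num) h2
      omega
    · rw [D.shift y (not_lt.1 hyL), hry]
      intro e
      have h2 : ((1 : ℕ) : ZMod p) = 0 := by push_cast; linear_combination e
      rw [ZMod.natCast_eq_zero_iff] at h2
      have := Nat.le_of_dvd (by norm_num) h2
      omega
  -- fixed points
  by_cases hfix : p ^ (h - 1) < L
  · refine not_isSolvable_of_fixed (v := w) hm hdiv (rot_mem _) (w_mem _) ?_ (w_mem _) ?_ ?_
    · exact hbreak
    · intro e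
      exact hdb ((congrArg (fun g : Perm (ZMod m) => g d) e).symm.trans wd)
    · refine lt_of_lt_of_le hfix ?_
      refine le_trans (le_of_eq (Nat.card_fin L).symm) (Nat.card_le_card_of_injective
        (fun i : Fin L => (⟨τ ((i.val : ℕ) : ZMod m), conj_apply τ v _ _
          (D.fixed _ (by rw [ZMod.val_cast_of_lt (by omega)]; exact i.2))⟩ : {x // w x = x})) ?_)
      intro i j e
      have h1 := congrArg ZMod.val (τ.injective (congrArg Subtype.val e))
      rw [ZMod.val_cast_of_lt (by omega), ZMod.val_cast_of_lt (by omega)] at h1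
      exact Fin.ext h1
  · refine not_isSolvable_of_fixed (v := w) (g := (rot m * w) ^ 2) hm hdiv (rot_mem _) (w_mem _) ?_
      (pow_mem (mul_mem (rot_mem _) (w_mem _)) 2) ?_ ?_
    · exact hbreak
    · intro e
      have h01 : ∀ i : ℕ, i < L - 1 → (rot m * w) (i : ZMod m) = ((i + 1 : ℕ) : ZMod m) := fun i hi => by
        rw [Perm.mul_apply, wo _ (ha ▸ cast_ne (by omega) (by omega) (by omega))
          (hb ▸ cast_ne (by omega) (by omega) (by omega)) (hc ▸ cast_ne (by omega) (by omega) (by omega))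
          (hd ▸ cast_ne (by omega) (by omega) (by omega)),
          D.fixed _ (by rw [ZMod.val_cast_of_lt (by omega)]; omega), rot_apply, Nat.cast_add, Nat.cast_one]
      have this : ((rot m * w) ^ 2) ((0 : ℕ) : ZMod m) = ((0 : ℕ) : ZMod m) := by rw [e]; rfl
      rw [sq, Perm.mul_apply, h01 0 (by omega), h01 (0 + 1) (by omega)] at this
      exact cast_ne (show 0 + 1 + 1 < m by omega) (show 0 < m by omega) (by omega) this
    · let I := (Finset.univ : Finset (ZMod m)).filter fun x => v x = x - 1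
      have hbI : b ∉ I := fun hbm => by
        rw [Finset.mem_filter, vb, ← hab1, add_sub_cancel_right] at hbm
        exact hta hbm.2
      have hsub : insert b I ⊆ (Finset.univ : Finset (ZMod m)).filter fun x => ((rot m * w) ^ 2) x = x := by
        intro x hx
        rw [Finset.mem_filter]
        refine ⟨Finset.mem_univ _, ?_⟩
        have hfx : (rot m * w) x = x → ((rot m * w) ^ 2) x = x := fun h1 => by
          rw [sq, Perm.mul_apply, h1, h1]
        rcases Finset.mem_insert.1 hx with rfl | hxI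
        · exact hfx (by rw [Perm.mul_apply, wb, rot_apply, hab1])
        by_cases h3 : x = c
        · rw [h3, sq, Perm.mul_apply, gc, gd]
        by_cases h4 : x = d
        · rw [h4, sq, Perm.mul_apply, gd, gc]
        have hv := (Finset.mem_filter.1 hxI).2
        have h1 : x ≠ a := fun e => by
          rw [e, va] at hv
          have h0 : (1 : ZMod m) = 0 := by linear_combination hv
          haveI : Fact (1 < m) := ⟨by omega⟩
          exact one_ne_zero h0
        have h2 : x ≠ b := fun e => hbI (e ▸ hxI)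
        exact hfx (by rw [Perm.mul_apply, wo x h1 h2 h3 h4, hv, rot_apply, sub_add_cancel])
      have hcnt := Finset.card_le_card hsub
      rw [Finset.card_insert_of_notMem hbI] at hcnt
      rw [Nat.card_eq_fintype_card, Fintype.card_subtype]
      have hI := D.count
      rw [Nat.card_eq_fintype_card, Fintype.card_subtype] at hI
      by_contra hlt
      have hmp : p ^ (h - 1) * p = m := by
        rw [hm, ← pow_succ]
        congr 1
        have : h ≠ 0 := fun e => by
          rw [hm, e, pow_zero] at hle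
          omega
        omega
      obtain ⟨μ, hμ⟩ : ∃ μ, μ = p ^ (h - 1) := ⟨_, rfl⟩
      rw [← hμ] at hfix hmp hlt
      have hIμ : I.card + 1 ≤ μ := le_trans hcnt (not_lt.1 hlt)
      have hI' : (p - 1) * (m - L) ≤ p * I.card := hI
      obtain ⟨r, rfl⟩ : ∃ r, p = r + 3 := ⟨p - 3, by omega⟩
      obtain ⟨Y, hY⟩ : ∃ Y, m - L = Y := ⟨_, rfl⟩
      have hY' : m = L + Y := by omega
      rw [hY, show r + 3 - 1 = r + 2 by omega] at hI'
      nlinarith [mul_le_mul_of_nonneg_left hIμ (Nat.zero_le (r + 3))]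

/-- No fixed point, a cycle of length at least five, several cycles. -/
theorem good_of_long [Fact p.Prime] (hp3 : 3 ≤ p) (hm : m = p ^ h) (hdiv : p ∣ m) {v : Perm (ZMod m)}
    {q : ℕ} (D : Down p hdiv v 0 q) (hq5 : 5 ≤ q) (hbig : 5 * p ≤ m) :
    ∃ τ : Perm (ZMod m), Good p (τ * v * τ⁻¹) := by
  classical
  have hp := (Fact.out : p.Prime)
  haveI : NeZero m := ⟨by omega⟩
  have hle := D.le
  rw [Nat.zero_add] at hle
  let E : ℕ → ZMod m := fun i => (i : ZMod m)
  have hne : ∀ i j, i ≤ 5 → j ≤ 5 → i ≠ j → E i ≠ E j := fun i j hi hj hij =>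
    cast_ne (by omega) (by omega) hij
  have vf : ∀ i, 1 ≤ i → i < q → v (E i) = E (i - 1) := fun i h1 h2 => by simpa using D.first i h1 h2
  set τ : Perm (ZMod m) := swap (E 1) (E 3) with hτ
  have τ1 : τ (E 1) = E 3 := swap_apply_left _ _
  have τ3 : τ (E 3) = E 1 := swap_apply_right _ _
  have τo : ∀ x, x ≠ E 1 → x ≠ E 3 → τ x = x := fun x h1 h2 => swap_apply_of_ne_of_ne h1 h2
  have τ0 : τ (E 0) = E 0 := τo _ (hne _ _ (by omega) (by omega) (by omega)) (hne _ _ (by omega) (by omega) (by omega))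
  have τ2 : τ (E 2) = E 2 := τo _ (hne _ _ (by omega) (by omega) (by omega)) (hne _ _ (by omega) (by omega) (by omega))
  have τ4 : τ (E 4) = E 4 := τo _ (hne _ _ (by omega) (by omega) (by omega)) (hne _ _ (by omega) (by omega) (by omega))
  set w := τ * v * τ⁻¹ with hw
  have w1 : w (E 1) = E 2 := by
    have := conj_apply τ v _ _ (vf 3 (by omega) (by omega))
    rwa [τ3, τ2] at this
  have w2 : w (E 2) = E 3 := by
    have := conj_apply τ v _ _ (vf 2 (by omega) (by omega))
    rwa [τ2, τ1] at this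
  have w3 : w (E 3) = E 0 := by
    have := conj_apply τ v _ _ (vf 1 (by omega) (by omega))
    rwa [τ1, τ0] at this
  have w4 : w (E 4) = E 1 := by
    have := conj_apply τ v _ _ (vf 4 (by omega) (by omega))
    rwa [τ4, τ3] at this
  have wo : ∀ x, x ≠ E 1 → x ≠ E 2 → x ≠ E 3 → x ≠ E 4 → w x = v x := by
    intro x h1 h2 h3 h4
    have := conj_apply τ v x (v x) rfl
    rw [τo x h1 h3] at this
    rw [this]
    exact τo _ (fun e => h2 (v.injective (e.trans (vf 2 (by omega) (by omega)).symm)))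
      (fun e => h4 (v.injective (e.trans (vf 4 (by omega) (by omega)).symm)))
  have succ : ∀ i, rot m (E i) = E (i + 1) := fun i => by simp [E, rot_apply]
  have g2 : (rot m * w) (E 2) = E 4 := by rw [Perm.mul_apply, w2, succ]
  have g4 : (rot m * w) (E 4) = E 2 := by rw [Perm.mul_apply, w4, succ]
  refine ⟨τ, ?_, not_pPow_of_period (x := E 2) (r := 2) (fun h2 => ?_) ?_
    (by rw [g2]; exact hne _ _ (by omega) (by omega) (by omega))⟩
  swap
  · have := Nat.le_of_dvd (by norm_num) h2; omega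
  swap
  · rw [sq, Perm.mul_apply, g2, g4]
  have hh2 : 2 ≤ h := by
    by_contra hlt
    have hpm : p ^ h ≤ p ^ 1 := Nat.pow_le_pow_right hp.pos (by omega)
    rw [pow_one, ← hm] at hpm
    omega
  obtain ⟨hpμ, hμ3, hμm⟩ := mu_facts hp3 hm hh2
  refine not_isSolvable_of_fixed (v := w) (g := rot m * w) hm hdiv (rot_mem _) (w_mem _) (fun hh => ?_)
    (mul_mem (rot_mem _) (w_mem _)) ?_ ?_
  · refine ⟨E 1, ?_⟩
    set y := E 1 + ((p ^ (h - 1) : ℕ) : ZMod m) with hy
    have h3μ : 3 * p ^ (h - 1) ≤ m := by rw [← hμm, mul_comm]; exact Nat.mul_le_mul_left _ hp3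
    have h5μ : 5 ≤ p ^ (h - 1) := by
      rw [← hμm, mul_comm] at hbig
      exact Nat.le_of_mul_le_mul_left (by linarith) hp.pos
    have hy' : ∀ i, 1 ≤ i → i ≤ 4 → y ≠ E i := fun i h1 h2 => by
      rw [hy]; exact shift_ne (by omega) (by omega)
    rw [w1, wo y (hy' _ le_rfl (by omega)) (hy' _ (by omega) (by omega)) (hy' _ (by omega) (by omega))
      (hy' _ (by omega) le_rfl), D.shift y (Nat.zero_le _), hy, res_mu hdiv hh]
    simp only [E, res_natCast]
    intro e
    push_cast at e
    have h2 : ((2 : ℕ) : ZMod p) = 0 := by push_cast; linear_combination -e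
    rw [ZMod.natCast_eq_zero_iff] at h2
    have := Nat.le_of_dvd (by norm_num) h2
    omega
  · intro e
    exact hne 4 2 (by omega) (by omega) (by omega) (g2.symm.trans (congrArg (fun g : Perm (ZMod m) => g (E 2)) e))
  · let I := (Finset.univ : Finset (ZMod m)).filter fun x => v x = x - 1
    have hsub : I \ {E 1, E 2, E 3, E 4} ⊆
        (Finset.univ : Finset (ZMod m)).filter fun x => (rot m * w) x = x := by
      intro x hx
      simp only [Finset.mem_sdiff, Finset.mem_insert, Finset.mem_singleton, not_or] at hx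
      rw [Finset.mem_filter]
      refine ⟨Finset.mem_univ _, ?_⟩
      rw [Perm.mul_apply, wo x hx.2.1 hx.2.2.1 hx.2.2.2.1 hx.2.2.2.2, (Finset.mem_filter.1 hx.1).2,
        rot_apply, sub_add_cancel]
    have hcnt := Finset.card_le_card hsub
    have hsd := Finset.le_card_sdiff {E 1, E 2, E 3, E 4} I
    have h4 := Finset.card_le_four (a := E 1) (b := E 2) (c := E 3) (d := E 4)
    have hI := D.count
    rw [Nat.card_eq_fintype_card, Fintype.card_subtype, Nat.sub_zero] at hI
    rw [Nat.card_eq_fintype_card, Fintype.card_subtype]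
    by_contra hlt
    obtain ⟨μ, hμ⟩ : ∃ μ, μ = p ^ (h - 1) := ⟨_, rfl⟩
    rw [← hμ] at hμm hlt
    have hIμ : I.card ≤ μ + 4 := by omega
    have hI' : (p - 1) * m ≤ p * I.card := hI
    obtain ⟨r, rfl⟩ : ∃ r, p = r + 3 := ⟨p - 3, by omega⟩
    rw [show r + 3 - 1 = r + 2 by omega] at hI'
    nlinarith [mul_le_mul_of_nonneg_left hIμ (Nat.zero_le (r + 3))]

/-- No fixed point, all cycles of length three. -/
theorem good_of_threes [Fact p.Prime] (hp : p = 3) (hm : m = p ^ h) (hh : 2 ≤ h) (hdiv : p ∣ m)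
    {v : Perm (ZMod m)} (D : Down p hdiv v 0 p) : ∃ τ : Perm (ZMod m), Good p (τ * v * τ⁻¹) := by
  classical
  subst hp
  obtain ⟨hpμ, hμ3, hμm⟩ := mu_facts (p := 3) le_rfl hm hh
  obtain ⟨k, hk⟩ : ∃ k, k = 3 ^ (h - 1) := ⟨_, rfl⟩
  rw [← hk] at hpμ hμ3 hμm
  haveI : NeZero m := ⟨by omega⟩
  let E : ℕ → ZMod m := fun i => (i : ZMod m)
  have hne : ∀ i j, i ≤ 5 → j ≤ 5 → i ≠ j → E i ≠ E j := fun i j hi hj hij =>
    cast_ne (by omega) (by omega) hij
  have v0 : v (E 0) = E 2 := by simpa [E] using D.start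
  have v1 : v (E 1) = E 0 := by simpa [E] using D.first 1 le_rfl (by omega)
  have v2 : v (E 2) = E 1 := by simpa [E] using D.first 2 (by omega) (by omega)
  set τ : Perm (ZMod m) := swap (E 1) (E 2) with hτ
  have τ1 : τ (E 1) = E 2 := swap_apply_left _ _
  have τ2 : τ (E 2) = E 1 := swap_apply_right _ _
  have τo : ∀ x, x ≠ E 1 → x ≠ E 2 → τ x = x := fun x h1 h2 => swap_apply_of_ne_of_ne h1 h2
  have τ0 : τ (E 0) = E 0 := τo _ (hne _ _ (by omega) (by omega) (by omega)) (hne _ _ (by omega) (by omega) (by omega))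
  set w := τ * v * τ⁻¹ with hw
  have w0 : w (E 0) = E 1 := by
    have := conj_apply τ v _ _ v0
    rwa [τ0, τ2] at this
  have w1 : w (E 1) = E 2 := by
    have := conj_apply τ v _ _ v2
    rwa [τ2, τ1] at this
  have w2 : w (E 2) = E 0 := by
    have := conj_apply τ v _ _ v1
    rwa [τ1, τ0] at this
  have wo : ∀ x, x ≠ E 0 → x ≠ E 1 → x ≠ E 2 → w x = v x := by
    intro x h0 h1 h2
    have := conj_apply τ v x (v x) rfl
    rw [τo x h1 h2] at this
    rw [this]
    exact τo _ (fun e => h2 (v.injective (e.trans v2.symm))) (fun e => h0 (v.injective (e.trans v0.symm)))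
  have succ : ∀ i, rot m (E i) = E (i + 1) := fun i => by simp [E, rot_apply]
  have g0 : (rot m * w) (E 0) = E 2 := by rw [Perm.mul_apply, w0, succ]
  have g2 : (rot m * w) (E 2) = E 1 := by rw [Perm.mul_apply, w2, succ]
  have g1 : (rot m * w) (E 1) = E 3 := by rw [Perm.mul_apply, w1, succ]
  have g3 : ∀ i, 1 ≤ i → i < k → (rot m * w) (E (3 * i)) = E (3 * (i + 1)) := by
    intro i hi hik
    have hlt : 3 * i < m := by omega
    rw [Perm.mul_apply, wo _ (cast_ne hlt (by omega) (by omega)) (cast_ne hlt (by omega) (by omega))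
      (cast_ne hlt (by omega) (by omega)),
      D.three rfl (E (3 * i)) (Nat.zero_le _) (by
        rw [Nat.sub_zero, show (E (3 * i)).val = 3 * i from ZMod.val_cast_of_lt hlt, Nat.mul_mod_right])]
    simp only [E, rot_apply]
    push_cast
    ring
  have horb : ∀ i, i ≤ k - 1 → ((rot m * w) ^ (3 + i)) (E 0) = E (3 * (i + 1)) := by
    intro i hi
    induction i with
    | zero =>
      rw [show 3 + 0 = 1 + 1 + 1 from rfl, pow_succ, pow_succ, pow_one, Perm.mul_apply, Perm.mul_apply, g0,
        g2, g1]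
    | succ i ih =>
      rw [← add_assoc, pow_succ', Perm.mul_apply, ih (by omega), g3 _ (by omega) (by omega)]
  refine ⟨τ, ?_, not_pPow_of_period (x := E 0) (r := k + 2) (fun hd => ?_) ?_
    (by rw [g0]; exact hne _ _ (by omega) (by omega) (by omega))⟩
  swap
  · rw [← Nat.dvd_add_iff_right hpμ] at *
    exact absurd (Nat.le_of_dvd (by norm_num) hd) (by norm_num)
  swap
  · rw [show k + 2 = 3 + (k - 1) by omega, horb _ le_rfl, show 3 * (k - 1 + 1) = m by omega]
    simp [E]
  refine not_isSolvable_of_fixed (v := w) (g := rot m * w) hm hdiv (rot_mem _) (w_mem _) (fun _ => ?_)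
    (mul_mem (rot_mem _) (w_mem _)) ?_ ?_
  · refine ⟨E 0, ?_⟩
    rw [← hk, w0]
    have hy : ∀ i, i ≤ 2 → E 0 + (k : ZMod m) ≠ E i := fun i hi => shift_ne (by omega) (by omega)
    rw [wo _ (hy 0 (by omega)) (hy 1 (by omega)) (hy 2 le_rfl), D.shift _ (Nat.zero_le _), map_add,
      res_natCast, res_natCast, res_natCast, (ZMod.natCast_eq_zero_iff k 3).2 hpμ]
    intro e
    have h2 : ((2 : ℕ) : ZMod 3) = 0 := by push_cast at e ⊢; linear_combination -e
    rw [ZMod.natCast_eq_zero_iff] at h2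
    norm_num at h2
  · intro e
    exact hne 2 0 (by omega) (by omega) (by omega) (g0.symm.trans (congrArg (fun g : Perm (ZMod m) => g (E 0)) e))
  · let I := (Finset.univ : Finset (ZMod m)).filter fun x => v x = x - 1
    have hsub : I \ {E 0, E 1, E 2} ⊆
        (Finset.univ : Finset (ZMod m)).filter fun x => (rot m * w) x = x := by
      intro x hx
      simp only [Finset.mem_sdiff, Finset.mem_insert, Finset.mem_singleton, not_or] at hx
      rw [Finset.mem_filter]
      refine ⟨Finset.mem_univ _, ?_⟩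
      rw [Perm.mul_apply, wo x hx.2.1 hx.2.2.1 hx.2.2.2, (Finset.mem_filter.1 hx.1).2, rot_apply,
        sub_add_cancel]
    have hcnt := Finset.card_le_card hsub
    have h0I : E 0 ∉ I := fun hm0 => by
      rw [Finset.mem_filter, v0] at hm0
      have h3 : ((3 : ℕ) : ZMod m) = ((0 : ℕ) : ZMod m) := by
        have := hm0.2
        simp only [E] at this
        push_cast at this ⊢
        linear_combination this
      exact cast_ne (by omega) (by omega) (by omega) h3
    have hsd : I.card - 2 ≤ (I \ {E 0, E 1, E 2}).card := by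
      have e : I \ {E 0, E 1, E 2} = I \ {E 1, E 2} := by
        ext x
        simp only [Finset.mem_sdiff, Finset.mem_insert, Finset.mem_singleton, not_or]
        exact ⟨fun hx => ⟨hx.1, hx.2.2⟩, fun hx => ⟨hx.1, fun e => h0I (e ▸ hx.1), hx.2⟩⟩
      rw [e]
      exact le_trans (Nat.sub_le_sub_left Finset.card_le_two _) (Finset.le_card_sdiff _ _)
    have hI := D.count
    rw [Nat.card_eq_fintype_card, Fintype.card_subtype, Nat.sub_zero] at hI
    rw [Nat.card_eq_fintype_card, Fintype.card_subtype, ← hk]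
    have hI' : (3 - 1) * m ≤ 3 * I.card := hI
    omega

/-- Fixed points of a commutator of the rotation. -/
theorem card_fixed_special [NeZero m] {s : Finset ℕ} {w : Perm (ZMod m)}
    (hs : ∀ x : ZMod m, (∀ i ∈ s, x ≠ (i : ZMod m)) → w x = x - 1) :
    m - s.card ≤ Nat.card {x // (rot m * w) x = x} := by
  classical
  rw [Nat.card_eq_fintype_card, Fintype.card_subtype]
  have hsub : (Finset.univ : Finset (ZMod m)) \ s.image (fun i : ℕ => (i : ZMod m)) ⊆
      Finset.univ.filter fun x => (rot m * w) x = x := by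
    intro x hx
    simp only [Finset.mem_sdiff, Finset.mem_univ, true_and, Finset.mem_image, not_exists, not_and] at hx
    rw [Finset.mem_filter]
    refine ⟨Finset.mem_univ _, ?_⟩
    rw [Perm.mul_apply, hs x fun i hi e => hx i hi e.symm, rot_apply, sub_add_cancel]
  refine le_trans ?_ (Finset.card_le_card hsub)
  refine le_trans ?_ (Finset.le_card_sdiff _ _)
  rw [Finset.card_univ, ZMod.card]
  exact Nat.sub_le_sub_left Finset.card_image_le _

/-- A single cycle: both parities. -/
theorem good_of_cycle [Fact p.Prime] (hp3 : 3 ≤ p) (hm : m = p ^ h) (hdiv : p ∣ m) (hm5 : 5 ≤ m) [NeZero m] :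
    ∃ τ τ' : Perm (ZMod m), Perm.sign τ ≠ Perm.sign τ' ∧ Good p (τ * (rot m)⁻¹ * τ⁻¹) ∧
      Good p (τ' * (rot m)⁻¹ * τ'⁻¹) := by
  classical
  have hp := (Fact.out : p.Prime)
  let E : ℕ → ZMod m := fun i => (i : ZMod m)
  have succ : ∀ i, rot m (E i) = E (i + 1) := fun i => by simp [E, rot_apply]
  have hv : ∀ i, (rot m)⁻¹ (E (i + 1)) = E i := fun i => by rw [Perm.inv_eq_iff_eq, succ]
  have hEone : ∀ i x, x - 1 = E i → x = E (i + 1) := fun i x e => by
    simp only [E] at e ⊢
    push_cast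
    linear_combination e
  have gen : ∀ (τ : Perm (ZMod m)) (w : Perm (ZMod m)) (s : Finset ℕ) (x x' : ℕ) (r : ℕ),
      w = τ * (rot m)⁻¹ * τ⁻¹ →
      (∀ y : ZMod m, (∀ i ∈ s, y ≠ (i : ZMod m)) → w y = y - 1) →
      p ^ (h - 1) < m - s.card →
      (2 ≤ h → ∃ y, res hdiv (w (y + (p ^ (h - 1) : ℕ))) ≠ res hdiv (w y)) →
      ¬ p ∣ r → ((rot m * w) ^ r) (E x) = E x → (rot m * w) (E x) = E x' → E x' ≠ E x →
      Good p w := by
    intro τ w s x x' r hw hs hcard hbr hr hper hx hxx
    refine ⟨not_isSolvable_of_fixed (v := w) (g := rot m * w) hm hdiv (rot_mem _) (w_mem _) hbr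
      (mul_mem (rot_mem _) (w_mem _)) (fun e => ?_) (lt_of_lt_of_le hcard (card_fixed_special hs)),
      not_pPow_of_period (x := E x) hr hper (by rw [hx]; exact hxx)⟩
    exact hxx (hx.symm.trans (congrArg (fun g : Perm (ZMod m) => g (E x)) e))
  have hμ : h ≤ 1 ∨ 2 ≤ h := by omega
  have hhpos : 1 ≤ h := by
    by_contra hlt
    obtain rfl : h = 0 := by omega
    rw [hm, pow_zero] at hm5
    omega
  have hμm : p ^ (h - 1) * p = m := by
    rw [hm, ← pow_succ]
    congr 1
    omega
  have h3μ : 3 * p ^ (h - 1) ≤ m := by rw [← hμm, mul_comm]; exact Nat.mul_le_mul_left _ hp3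
  have yne : ∀ x i, x ≤ 6 → i ≤ 6 → 2 ≤ h → i < x + p ^ (h - 1) → x + p ^ (h - 1) < i + m →
      E x + ((p ^ (h - 1) : ℕ) : ZMod m) ≠ E i := fun x i _ _ _ h1 h2 => shift_ne h2 h1
  have hres : ∀ a b : ℕ, a < p → b < p → a ≠ b → ((a : ℕ) : ZMod p) ≠ ((b : ℕ) : ZMod p) :=
    fun a b ha hb hab => cast_ne ha hb hab
  -- the value of a conjugate of the inverse rotation away from the support
  have wgen : ∀ (τ : Perm (ZMod m)) (y : ZMod m), τ y = y → τ (y - 1) = y - 1 →
      (τ * (rot m)⁻¹ * τ⁻¹) y = y - 1 := by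
    intro τ y h1 h2
    have := conj_apply τ (rot m)⁻¹ y (y - 1) (by rw [Perm.inv_eq_iff_eq, rot_apply, sub_add_cancel])
    rwa [h1, h2] at this
  rcases eq_or_lt_of_le hp3 with h3 | h5
  · -- `p = 3`, so `m ≥ 9`
    have hh2 : 2 ≤ h := by
      by_contra hlt
      obtain rfl : h = 1 := by omega
      rw [hm, ← h3] at hm5
      omega
    have hμ3 : 3 ≤ p ^ (h - 1) := le_trans hp3 (Nat.le_self_pow (by omega) p)
    have hne : ∀ i j, i ≤ 6 → j ≤ 6 → i ≠ j → E i ≠ E j := fun i j hi hj hij =>
      cast_ne (by omega) (by omega) hij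
    refine ⟨swap (E 1) (E 3),
      swap (E 5) (E 1) * swap (E 1) (E 4) * swap (E 4) (E 3) * swap (E 3) (E 2), ?_, ?_, ?_⟩
    · rw [map_mul, map_mul, map_mul, Perm.sign_swap (hne _ _ (by omega) (by omega) (by omega)),
        Perm.sign_swap (hne _ _ (by omega) (by omega) (by omega)),
        Perm.sign_swap (hne _ _ (by omega) (by omega) (by omega)),
        Perm.sign_swap (hne _ _ (by omega) (by omega) (by omega)),
        Perm.sign_swap (hne _ _ (by omega) (by omega) (by omega))]
      decide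
    · set τ := swap (E 1) (E 3) with hτ
      have τo : ∀ y, y ≠ E 1 → y ≠ E 3 → τ y = y := fun y h1 h2 => swap_apply_of_ne_of_ne h1 h2
      have w1 : (τ * (rot m)⁻¹ * τ⁻¹) (E 1) = E 2 := by
        have := conj_apply τ (rot m)⁻¹ _ _ (hv 2)
        rwa [show τ (E (2 + 1)) = E 1 from swap_apply_right _ _,
          τo (E 2) (hne _ _ (by omega) (by omega) (by omega)) (hne _ _ (by omega) (by omega) (by omega))] at this
      have w3 : (τ * (rot m)⁻¹ * τ⁻¹) (E 3) = E 0 := by
        have := conj_apply τ (rot m)⁻¹ _ _ (hv 0)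
        rwa [show τ (E (0 + 1)) = E 3 from swap_apply_left _ _,
          τo (E 0) (hne _ _ (by omega) (by omega) (by omega)) (hne _ _ (by omega) (by omega) (by omega))] at this
      have g1 : (rot m * (τ * (rot m)⁻¹ * τ⁻¹)) (E 1) = E 3 := by rw [Perm.mul_apply, w1, succ]
      have g3 : (rot m * (τ * (rot m)⁻¹ * τ⁻¹)) (E 3) = E 1 := by rw [Perm.mul_apply, w3, succ]
      refine gen τ _ {1, 2, 3, 4} 1 3 2 rfl ?_ ?_ ?_ ?_ ?_ g1 (hne _ _ (by omega) (by omega) (by omega))
      · intro y hy
        simp only [Finset.mem_insert, Finset.mem_singleton, forall_eq_or_imp, forall_eq] at hy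
        exact wgen τ y (τo y hy.1 hy.2.2.1) (τo _ (fun e => hy.2.1 (hEone 1 y e)) (fun e => hy.2.2.2 (hEone 3 y e)))
      · have : ({1, 2, 3, 4} : Finset ℕ).card = 4 := rfl
        omega
      · intro hh
        refine ⟨E 1, ?_⟩
        have hy' : ∀ i, 1 ≤ i → i ≤ 3 → E 1 + ((p ^ (h - 1) : ℕ) : ZMod m) ≠ E i := fun i h1 h2 =>
          yne 1 i (by omega) (by omega) hh (by omega) (by omega)
        by_cases h4 : E 1 + ((p ^ (h - 1) : ℕ) : ZMod m) = E 4
        · have w4 : (τ * (rot m)⁻¹ * τ⁻¹) (E 4) = E 1 := by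
            have := conj_apply τ (rot m)⁻¹ _ _ (hv 3)
            rwa [τo (E (3 + 1)) (hne _ _ (by omega) (by omega) (by omega)) (hne _ _ (by omega) (by omega) (by omega)),
              show τ (E 3) = E 1 from swap_apply_right _ _] at this
          rw [h4, w4, w1]
          simp only [E, res_natCast]
          exact hres 1 2 (by omega) (by omega) (by omega)
        rw [wgen τ _ (τo _ (hy' 1 le_rfl (by omega)) (hy' 3 (by omega) le_rfl))
          (τo _ (fun e => hy' 2 (by omega) (by omega) (hEone 1 _ e)) (fun e => h4 (hEone 3 _ e))),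
          w1, map_sub, res_mu hdiv hh, map_one]
        simp only [E, res_natCast, Nat.cast_one, sub_self]
        simpa using hres 0 2 (by omega) (by omega) (by omega)
      · intro hd; have := Nat.le_of_dvd (by norm_num) hd; omega
      · rw [sq, Perm.mul_apply, g1, g3]
    · set τ := swap (E 5) (E 1) * swap (E 1) (E 4) * swap (E 4) (E 3) * swap (E 3) (E 2) with hτ
      have τv : ∀ y, τ y = swap (E 5) (E 1) (swap (E 1) (E 4) (swap (E 4) (E 3) (swap (E 3) (E 2) y))) :=
        fun y => rfl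
      have sne : ∀ i j l, i ≤ 6 → j ≤ 6 → l ≤ 6 → l ≠ i → l ≠ j → swap (E i) (E j) (E l) = E l :=
        fun i j l hi hj hl h1 h2 =>
          swap_apply_of_ne_of_ne (hne _ _ hl hi h1) (hne _ _ hl hj h2)
      have τ2 : τ (E 2) = E 5 := by
        rw [τv, swap_apply_right, swap_apply_right, swap_apply_right, swap_apply_right]
      have τ3 : τ (E 3) = E 2 := by
        rw [τv, swap_apply_left, sne 4 3 2 (by omega) (by omega) (by omega) (by omega) (by omega),
          sne 1 4 2 (by omega) (by omega) (by omega) (by omega) (by omega),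
          sne 5 1 2 (by omega) (by omega) (by omega) (by omega) (by omega)]
      have τ4 : τ (E 4) = E 3 := by
        rw [τv, sne 3 2 4 (by omega) (by omega) (by omega) (by omega) (by omega), swap_apply_left,
          sne 1 4 3 (by omega) (by omega) (by omega) (by omega) (by omega),
          sne 5 1 3 (by omega) (by omega) (by omega) (by omega) (by omega)]
      have τ5 : τ (E 5) = E 1 := by
        rw [τv, sne 3 2 5 (by omega) (by omega) (by omega) (by omega) (by omega),
          sne 4 3 5 (by omega) (by omega) (by omega) (by omega) (by omega),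
          sne 1 4 5 (by omega) (by omega) (by omega) (by omega) (by omega), swap_apply_left]
      have τ1 : τ (E 1) = E 4 := by
        rw [τv, sne 3 2 1 (by omega) (by omega) (by omega) (by omega) (by omega),
          sne 4 3 1 (by omega) (by omega) (by omega) (by omega) (by omega), swap_apply_left,
          sne 5 1 4 (by omega) (by omega) (by omega) (by omega) (by omega)]
      have τo : ∀ y, y ≠ E 1 → y ≠ E 2 → y ≠ E 3 → y ≠ E 4 → y ≠ E 5 → τ y = y := fun y a b c d e => by
        rw [τv, swap_apply_of_ne_of_ne c b, swap_apply_of_ne_of_ne d c, swap_apply_of_ne_of_ne a d,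
          swap_apply_of_ne_of_ne e a]
      have τ0 : τ (E 0) = E 0 := τo _ (hne _ _ (by omega) (by omega) (by omega))
        (hne _ _ (by omega) (by omega) (by omega)) (hne _ _ (by omega) (by omega) (by omega))
        (hne _ _ (by omega) (by omega) (by omega)) (hne _ _ (by omega) (by omega) (by omega))
      have τ6 : τ (E 6) = E 6 := τo _ (hne _ _ (by omega) (by omega) (by omega))
        (hne _ _ (by omega) (by omega) (by omega)) (hne _ _ (by omega) (by omega) (by omega))
        (hne _ _ (by omega) (by omega) (by omega)) (hne _ _ (by omega) (by omega) (by omega))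
      have w1 : (τ * (rot m)⁻¹ * τ⁻¹) (E 1) = E 3 := by
        have := conj_apply τ (rot m)⁻¹ _ _ (hv 4)
        rwa [τ5, τ4] at this
      have w4 : (τ * (rot m)⁻¹ * τ⁻¹) (E 4) = E 0 := by
        have := conj_apply τ (rot m)⁻¹ _ _ (hv 0)
        rwa [τ1, τ0] at this
      have w6 : (τ * (rot m)⁻¹ * τ⁻¹) (E 6) = E 1 := by
        have := conj_apply τ (rot m)⁻¹ _ _ (hv 5)
        rwa [τ6, τ5] at this
      have g1 : (rot m * (τ * (rot m)⁻¹ * τ⁻¹)) (E 1) = E 4 := by rw [Perm.mul_apply, w1, succ]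
      have g4 : (rot m * (τ * (rot m)⁻¹ * τ⁻¹)) (E 4) = E 1 := by rw [Perm.mul_apply, w4, succ]
      have w3 : (τ * (rot m)⁻¹ * τ⁻¹) (E 3) = E 2 := by
        have := conj_apply τ (rot m)⁻¹ _ _ (hv 3)
        rwa [τ4, τ3] at this
      have w5 : (τ * (rot m)⁻¹ * τ⁻¹) (E 5) = E 4 := by
        have := conj_apply τ (rot m)⁻¹ _ _ (hv 1)
        rwa [τ2, τ1] at this
      have hEpred : ∀ i, E (i + 1) - 1 = E i := fun i => by simp [E]
      refine gen τ _ {1, 2, 4, 6} 1 4 2 rfl ?_ ?_ ?_ ?_ ?_ g1 (hne _ _ (by omega) (by omega) (by omega))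
      · intro y hy
        simp only [Finset.mem_insert, Finset.mem_singleton, forall_eq_or_imp, forall_eq] at hy
        by_cases e3 : y = E 3
        · rw [e3, w3, hEpred]
        by_cases e5 : y = E 5
        · rw [e5, w5, hEpred]
        exact wgen τ y (τo y hy.1 hy.2.1 e3 hy.2.2.1 e5)
          (τo _ (fun e => hy.2.1 (hEone 1 y e)) (fun e => e3 (hEone 2 y e))
            (fun e => hy.2.2.1 (hEone 3 y e)) (fun e => e5 (hEone 4 y e))
            (fun e => hy.2.2.2 (hEone 5 y e)))
      · have : ({1, 2, 4, 6} : Finset ℕ).card = 4 := rfl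
        omega
      · intro hh
        refine ⟨E 6, ?_⟩
        have hy' : ∀ i, 1 ≤ i → i ≤ 6 → E 6 + ((p ^ (h - 1) : ℕ) : ZMod m) ≠ E i := fun i h1 h2 =>
          yne 6 i (by omega) (by omega) hh (by omega) (by omega)
        rw [wgen τ _ (τo _ (hy' 1 le_rfl (by omega)) (hy' 2 (by omega) (by omega)) (hy' 3 (by omega) (by omega))
            (hy' 4 (by omega) (by omega)) (hy' 5 (by omega) (by omega)))
          (τo _ (fun e => hy' 2 (by omega) (by omega) (hEone 1 _ e))
            (fun e => hy' 3 (by omega) (by omega) (hEone 2 _ e))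
            (fun e => hy' 4 (by omega) (by omega) (hEone 3 _ e))
            (fun e => hy' 5 (by omega) (by omega) (hEone 4 _ e))
            (fun e => hy' 6 (by omega) le_rfl (hEone 5 _ e))),
          w6, map_sub, res_mu hdiv hh, map_one]
        simp only [E, res_natCast]
        intro e
        have h4 : ((4 : ℕ) : ZMod p) = 0 := by push_cast at e ⊢; linear_combination e
        rw [ZMod.natCast_eq_zero_iff, ← h3] at h4
        norm_num at h4
      · intro hd; have := Nat.le_of_dvd (by norm_num) hd; omega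
      · rw [sq, Perm.mul_apply, g1, g4]
  · -- `p ≥ 5`
    have hp5 : 5 ≤ p := by
      rcases Nat.lt_or_ge p 5 with h' | h'
      · obtain rfl : p = 4 := by omega
        exact absurd hp (by norm_num)
      · exact h'
    have hne : ∀ i j, i ≤ 4 → j ≤ 4 → i ≠ j → E i ≠ E j := fun i j hi hj hij =>
      cast_ne (by omega) (by omega) hij
    have hμ5 : 5 * p ^ (h - 1) ≤ m := by rw [← hμm, mul_comm]; exact Nat.mul_le_mul_left _ hp5
    have hr3 : ¬ p ∣ 3 := fun hd => by have := Nat.le_of_dvd (by norm_num) hd; omega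
    refine ⟨swap (E 1) (E 2), swap (E 1) (E 2) * swap (E 2) (E 3), ?_, ?_, ?_⟩
    · rw [map_mul, Perm.sign_swap (hne _ _ (by omega) (by omega) (by omega)),
        Perm.sign_swap (hne _ _ (by omega) (by omega) (by omega))]
      decide
    · set τ := swap (E 1) (E 2) with hτ
      have τo : ∀ y, y ≠ E 1 → y ≠ E 2 → τ y = y := fun y h1 h2 => swap_apply_of_ne_of_ne h1 h2
      have τ0 : τ (E 0) = E 0 := τo _ (hne _ _ (by omega) (by omega) (by omega)) (hne _ _ (by omega) (by omega) (by omega))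
      have τ3 : τ (E 3) = E 3 := τo _ (hne _ _ (by omega) (by omega) (by omega)) (hne _ _ (by omega) (by omega) (by omega))
      have τ1 : τ (E 1) = E 2 := swap_apply_left _ _
      have τ2 : τ (E 2) = E 1 := swap_apply_right _ _
      have w1 : (τ * (rot m)⁻¹ * τ⁻¹) (E 1) = E 2 := by
        have := conj_apply τ (rot m)⁻¹ _ _ (hv 1)
        rwa [τ2, τ1] at this
      have w2 : (τ * (rot m)⁻¹ * τ⁻¹) (E 2) = E 0 := by
        have := conj_apply τ (rot m)⁻¹ _ _ (hv 0)
        rwa [τ1, τ0] at this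
      have w3 : (τ * (rot m)⁻¹ * τ⁻¹) (E 3) = E 1 := by
        have := conj_apply τ (rot m)⁻¹ _ _ (hv 2)
        rwa [τ3, τ2] at this
      have g1 : (rot m * (τ * (rot m)⁻¹ * τ⁻¹)) (E 1) = E 3 := by rw [Perm.mul_apply, w1, succ]
      have g3 : (rot m * (τ * (rot m)⁻¹ * τ⁻¹)) (E 3) = E 2 := by rw [Perm.mul_apply, w3, succ]
      have g2 : (rot m * (τ * (rot m)⁻¹ * τ⁻¹)) (E 2) = E 1 := by rw [Perm.mul_apply, w2, succ]
      refine gen τ _ {1, 2, 3} 1 3 3 rfl ?_ ?_ ?_ hr3 ?_ g1 (hne _ _ (by omega) (by omega) (by omega))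
      · intro y hy
        simp only [Finset.mem_insert, Finset.mem_singleton, forall_eq_or_imp, forall_eq] at hy
        exact wgen τ y (τo y hy.1 hy.2.1) (τo _ (fun e => hy.2.1 (hEone 1 y e)) (fun e => hy.2.2 (hEone 2 y e)))
      · have : ({1, 2, 3} : Finset ℕ).card = 3 := rfl
        omega
      · intro hh
        refine ⟨E 1, ?_⟩
        have hμge : 5 ≤ p ^ (h - 1) := le_trans hp5 (Nat.le_self_pow (by omega) p)
        have hy' : ∀ i, 1 ≤ i → i ≤ 3 → E 1 + ((p ^ (h - 1) : ℕ) : ZMod m) ≠ E i := fun i h1 h2 =>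
          yne 1 i (by omega) (by omega) hh (by omega) (by omega)
        rw [wgen τ _ (τo _ (hy' 1 le_rfl (by omega)) (hy' 2 (by omega) (by omega)))
          (τo _ (fun e => hy' 2 (by omega) (by omega) (hEone 1 _ e))
            (fun e => hy' 3 (by omega) le_rfl (hEone 2 _ e))),
          w1, map_sub, res_mu hdiv hh, map_one]
        simp only [E, res_natCast, Nat.cast_one, sub_self]
        simpa using hres 0 2 (by omega) (by omega) (by omega)
      · rw [pow_succ, pow_succ, pow_one, Perm.mul_apply, Perm.mul_apply, g1, g3, g2]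
    · set τ := swap (E 1) (E 2) * swap (E 2) (E 3) with hτ
      have τo : ∀ y, y ≠ E 1 → y ≠ E 2 → y ≠ E 3 → τ y = y := fun y a b c => by
        rw [hτ, Perm.mul_apply, swap_apply_of_ne_of_ne b c, swap_apply_of_ne_of_ne a b]
      have τ1 : τ (E 1) = E 2 := by
        rw [hτ, Perm.mul_apply, swap_apply_of_ne_of_ne (hne _ _ (by omega) (by omega) (by omega))
          (hne _ _ (by omega) (by omega) (by omega)), swap_apply_left]
      have τ2 : τ (E 2) = E 3 := by
        rw [hτ, Perm.mul_apply, swap_apply_left, swap_apply_of_ne_of_ne (hne _ _ (by omega) (by omega) (by omega))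
          (hne _ _ (by omega) (by omega) (by omega))]
      have τ3 : τ (E 3) = E 1 := by rw [hτ, Perm.mul_apply, swap_apply_right, swap_apply_right]
      have τ0 : τ (E 0) = E 0 := τo _ (hne _ _ (by omega) (by omega) (by omega))
        (hne _ _ (by omega) (by omega) (by omega)) (hne _ _ (by omega) (by omega) (by omega))
      have τ4 : τ (E 4) = E 4 := τo _ (hne _ _ (by omega) (by omega) (by omega))
        (hne _ _ (by omega) (by omega) (by omega)) (hne _ _ (by omega) (by omega) (by omega))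
      have w1 : (τ * (rot m)⁻¹ * τ⁻¹) (E 1) = E 3 := by
        have := conj_apply τ (rot m)⁻¹ _ _ (hv 2)
        rwa [τ3, τ2] at this
      have w2 : (τ * (rot m)⁻¹ * τ⁻¹) (E 2) = E 0 := by
        have := conj_apply τ (rot m)⁻¹ _ _ (hv 0)
        rwa [τ1, τ0] at this
      have w4 : (τ * (rot m)⁻¹ * τ⁻¹) (E 4) = E 1 := by
        have := conj_apply τ (rot m)⁻¹ _ _ (hv 3)
        rwa [τ4, τ3] at this
      have g1 : (rot m * (τ * (rot m)⁻¹ * τ⁻¹)) (E 1) = E 4 := by rw [Perm.mul_apply, w1, succ]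
      have g4 : (rot m * (τ * (rot m)⁻¹ * τ⁻¹)) (E 4) = E 2 := by rw [Perm.mul_apply, w4, succ]
      have g2 : (rot m * (τ * (rot m)⁻¹ * τ⁻¹)) (E 2) = E 1 := by rw [Perm.mul_apply, w2, succ]
      have w3 : (τ * (rot m)⁻¹ * τ⁻¹) (E 3) = E 2 := by
        have := conj_apply τ (rot m)⁻¹ _ _ (hv 1)
        rwa [τ2, τ1] at this
      have hEpred : ∀ i, E (i + 1) - 1 = E i := fun i => by simp [E]
      refine gen τ _ {1, 2, 4} 1 4 3 rfl ?_ ?_ ?_ hr3 ?_ g1 (hne _ _ (by omega) (by omega) (by omega))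
      · intro y hy
        simp only [Finset.mem_insert, Finset.mem_singleton, forall_eq_or_imp, forall_eq] at hy
        by_cases e3 : y = E 3
        · rw [e3, w3, hEpred]
        exact wgen τ y (τo y hy.1 hy.2.1 e3) (τo _ (fun e => hy.2.1 (hEone 1 y e))
          (fun e => e3 (hEone 2 y e)) (fun e => hy.2.2 (hEone 3 y e)))
      · have : ({1, 2, 4} : Finset ℕ).card = 3 := rfl
        omega
      · intro hh
        refine ⟨E 1, ?_⟩
        have hμge : 5 ≤ p ^ (h - 1) := le_trans hp5 (Nat.le_self_pow (by omega) p)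
        have hy' : ∀ i, 1 ≤ i → i ≤ 4 → E 1 + ((p ^ (h - 1) : ℕ) : ZMod m) ≠ E i := fun i h1 h2 =>
          yne 1 i (by omega) (by omega) hh (by omega) (by omega)
        rw [wgen τ _ (τo _ (hy' 1 le_rfl (by omega)) (hy' 2 (by omega) (by omega)) (hy' 3 (by omega) (by omega)))
          (τo _ (fun e => hy' 2 (by omega) (by omega) (hEone 1 _ e))
            (fun e => hy' 3 (by omega) (by omega) (hEone 2 _ e))
            (fun e => hy' 4 (by omega) le_rfl (hEone 3 _ e))),
          w1, map_sub, res_mu hdiv hh, map_one]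
        simp only [E, res_natCast, Nat.cast_one, sub_self]
        simpa using hres 0 3 (by omega) (by omega) (by omega)
      · rw [pow_succ, pow_succ, pow_one, Perm.mul_apply, Perm.mul_apply, g1, g4, g2]

end CfsgLib.FreePair
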